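/-
Simple groups of order 2520: centralisers of elements of order five and seven.
-/
import Cfsg.Agent.Lib.SmallCentralizer.TwoGroup
import Cfsg.Agent.Lib.SmallCentralizer.Classify
import Mathlib.GroupTheory.Perm.Cycle.Type

set_option autoImplicit false

namespace Cfsg.Agent.Lib.SmallCentralizer.Order2520

open Subgroup MulAction Cfsg.Agent.Lib.SmallGroups

universe u

variable {G : Type u} [Group G] [Finite G]

/-- The standing hypotheses: simple of order 2520 without a subgroup of index seven. -/
structure Hyp (G : Type u) [Group G] [Finite G] : Prop where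
  simple : IsSimpleGroup G
  card : Nat.card G = 2520
  index : ∀ H : Subgroup G, H.index ≠ 7

variable (h : Hyp G)
include h

theorem Hyp.not_comm : ¬ IsMulCommutative G :=
  haveI := h.simple
  SmallGroups.Sylow.not_comm_of_card (by rw [h.card]; norm_num)

theorem Hyp.not_cyclic : ¬ IsCyclic G := fun hc => h.not_comm hc.isMulCommutative

theorem Hyp.eight_le_index {H : Subgroup G} (hH : H ≠ ⊤) : 8 ≤ H.index := by
  haveI := h.simple
  by_contra hle
  have h7 : H.index ≤ 6 := by have := h.index H; omega
  have hd := SmallGroups.Sylow.two_mul_card_dvd_factorial h.not_comm hH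
  rw [h.card] at hd
  have hle' : H.index.factorial ≤ (6 : ℕ).factorial := Nat.factorial_le h7
  have h6 : (6 : ℕ).factorial = 720 := rfl
  have := Nat.le_of_dvd (Nat.factorial_pos _) hd
  omega

theorem Hyp.card_le {H : Subgroup G} (hH : H ≠ ⊤) : Nat.card H ≤ 315 := by
  have := h.eight_le_index hH
  have hm := H.card_mul_index
  rw [h.card] at hm
  nlinarith

theorem Hyp.centralizer_ne_top {x : G} (hx : x ≠ 1) : centralizer ({x} : Set G) ≠ ⊤ := by
  haveI := h.simple
  intro e
  refine hx ((Subgroup.eq_bot_iff_forall _).1 (SmallGroups.Sylow.center_eq_bot h.not_comm) x ?_)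
  rw [Subgroup.mem_center_iff]
  intro g
  exact mem_centralizer_singleton_iff.1 (e ▸ mem_top g : g ∈ centralizer ({x} : Set G))

/-- Every action of a group without subgroup of index two is by even permutations. -/
theorem Hyp.sign_eq_one {X : Type*} [Fintype X] [DecidableEq X] (Φ : G →* Equiv.Perm X) (g : G) :
    Equiv.Perm.sign (Φ g) = 1 := by
  haveI := h.simple
  rcases SmallGroups.Sylow.injective_or_trivial (Equiv.Perm.sign.comp Φ) with hi | hi
  · exact absurd ⟨⟨fun a b => hi (by rw [map_mul, map_mul, mul_comm])⟩⟩ h.not_comm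
  · exact hi g

omit [Finite G] h in
/-- The moved set of an element commuting with a `p`-element fixing a single point. -/
theorem dvd_card_support {X : Type*} [Fintype X] [DecidableEq X] {p : ℕ} [Fact p.Prime]
    {σ π : Equiv.Perm X} (hσ : σ ^ p = 1) (hc : Commute σ π) {i : X} (hi : π i = i)
    (hfix : ∀ j, σ j = j → j = i) : p ∣ π.support.card := by
  have hmem : ∀ j, σ j ∈ π.support ↔ j ∈ π.support := by
    intro j
    rw [Equiv.Perm.mem_support, Equiv.Perm.mem_support]
    have e : π (σ j) = σ (π j) := (Equiv.Perm.congr_fun hc.eq j).symm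
    rw [e, σ.injective.ne_iff]
  let τ : Equiv.Perm {j // j ∈ π.support} := σ.subtypePerm hmem
  have hτ : τ ^ p ^ 1 = 1 := by
    rw [pow_one, Equiv.Perm.subtypePerm_pow]
    ext j
    simp [hσ]
  have hsup : τ.support = Finset.univ := by
    rw [Finset.eq_univ_iff_forall]
    intro j
    rw [Equiv.Perm.mem_support]
    intro e
    have e' : σ j = (j : X) := congrArg Subtype.val e
    have := j.2
    rw [hfix j e', Equiv.Perm.mem_support] at this
    exact this hi
  have hm := Equiv.Perm.card_compl_support_modEq hτ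
  rw [hsup, Finset.compl_univ, Finset.card_empty, Fintype.card_coe] at hm
  exact Nat.modEq_zero_iff_dvd.1 hm.symm

omit [Finite G] h in
/-- An even permutation of prime order `q` moves a multiple of `q` points; for `q = 2` of four. -/
theorem support_card_two {X : Type*} [Fintype X] [DecidableEq X] {π : Equiv.Perm X}
    (h2 : π ^ 2 = 1) (hs : Equiv.Perm.sign π = 1) : 4 ∣ π.support.card := by
  by_cases h1 : π = 1
  · subst h1; simp
  haveI : Fact (Nat.Prime 2) := ⟨Nat.prime_two⟩
  have ho : orderOf π = 2 := orderOf_eq_prime h2 h1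
  obtain ⟨n, hn⟩ := Equiv.Perm.cycleType_prime_order (σ := π) (by rw [ho]; exact Nat.prime_two)
  rw [ho] at hn
  have hsum := π.sum_cycleType
  rw [hn, Multiset.sum_replicate, smul_eq_mul] at hsum
  rw [Equiv.Perm.sign_of_cycleType, hn, Multiset.sum_replicate, Multiset.card_replicate, smul_eq_mul] at hs
  have hev : Even ((n + 1) * 2 + (n + 1)) := by
    by_contra hodd
    rw [(Nat.not_even_iff_odd.1 hodd).neg_one_pow] at hs
    exact absurd hs (by decide)
  rw [← hsum]
  obtain ⟨r, hr⟩ := hev
  omega

omit [Finite G] h in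
theorem prime_dvd_support {X : Type*} [Fintype X] [DecidableEq X] {q : ℕ} [Fact q.Prime]
    {π : Equiv.Perm X} (hq : π ^ q = 1) : q ∣ π.support.card := by
  have hm := Equiv.Perm.card_compl_support_modEq (n := 1) (by rwa [pow_one] : π ^ q ^ 1 = 1)
  rw [Finset.card_compl, Nat.modEq_iff_dvd' (Nat.sub_le _ _)] at hm
  have := Finset.card_le_univ π.support
  rwa [show Fintype.card X - (Fintype.card X - π.support.card) = π.support.card by omega] at hm

variable {p : ℕ} [Fact p.Prime]

omit h in
/-- An element of prime order generating a Sylow subgroup fixes only that subgroup. -/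
theorem eq_of_smul_eq {x : G} (hx : orderOf x = p) {P R : Sylow p G}
    (hP : (P : Subgroup G) = zpowers x) (hR : x • R = R) : R = P := by
  have hmem := Sylow.smul_eq_iff_mem_normalizer.1 hR
  have hp : IsPGroup p (zpowers x) := IsPGroup.of_card (n := 1) (by rw [Nat.card_zpowers, hx, pow_one])
  have hle : zpowers x ≤ (R : Subgroup G) := by
    have e := hp.inf_normalizer_sylow R
    have : zpowers x ⊓ normalizer (R : Set G) = zpowers x :=
      inf_eq_left.2 (zpowers_le.2 hmem)
    rw [this] at e
    exact e.symm ▸ inf_le_right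
  refine Sylow.ext ?_
  rw [hP]
  exact P.3 R.2 (hP ▸ hle) |>.trans hP

omit h in
theorem centralizer_zpowers_eq (x : G) :
    centralizer ((zpowers x : Subgroup G) : Set G) = centralizer ({x} : Set G) := by
  ext z
  rw [mem_centralizer_singleton_iff, mem_centralizer_iff]
  refine ⟨fun hz => (hz x (mem_zpowers x)).symm, fun hz y hy => ?_⟩
  obtain ⟨i, rfl⟩ := mem_zpowers_iff.1 (SetLike.mem_coe.1 hy)
  exact ((show Commute x z from hz.symm).zpow_left i).eq

/-- The data of an element of prime order whose subgroup is a Sylow subgroup. -/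
theorem Hyp.sylow_data {x : G} (hx : orderOf x = p) {m : ℕ} (hm : 2520 = p ^ 1 * m) (hpm : ¬ p ∣ m) :
    ∃ P : Sylow p G, (P : Subgroup G) = zpowers x ∧ ∃ e : ℕ, e ∣ p - 1 ∧ 1 < e ∧
      p ∣ Nat.card (centralizer ({x} : Set G)) ∧
      Nat.card (centralizer ({x} : Set G)) * e * Nat.card (Sylow p G) = 2520 ∧
      Nat.card (Sylow p G) ∈ m.divisors.filter (fun d => d % p = 1) ∧
      8 ≤ Nat.card (Sylow p G) := by
  haveI := h.simple
  have hm' : Nat.card G = p ^ 1 * m := h.card.trans hm
  have hp : IsPGroup p (zpowers x) := IsPGroup.of_card (n := 1) (by rw [Nat.card_zpowers, hx, pow_one])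
  obtain ⟨P, hP⟩ := hp.exists_le_sylow
  have hPc : Nat.card (P : Subgroup G) = p := by
    rw [SmallGroups.Sylow.card_sylow_eq P hm' hpm, pow_one]
  have hPe : (P : Subgroup G) = zpowers x :=
    (Subgroup.eq_of_le_of_card_ge hP (by rw [hPc, Nat.card_zpowers, hx])).symm
  refine ⟨P, hPe, ?_⟩
  obtain ⟨e, c, he, he1, hpc, hc, hce⟩ := SmallGroups.Sylow.exists_normalizer_factor h.not_comm P hPc
  rw [hPe, centralizer_zpowers_eq] at hc
  subst hc
  refine ⟨e, he, he1, hpc, ?_, SmallGroups.Sylow.card_sylow_mem hm' hpm, ?_⟩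
  · rw [hce, SmallGroups.Sylow.card_normalizer_mul, h.card]
  · rw [← SmallGroups.Sylow.index_normalizer P]
    refine h.eight_le_index (SmallGroups.Sylow.normalizer_ne_top P
      (SmallGroups.Sylow.card_sylow_ne_one hm' hpm one_ne_zero ?_))
    rintro rfl
    rw [pow_one, mul_one] at hm
    subst hm
    exact absurd (Fact.out : Nat.Prime 2520) (by norm_num)

omit [Fact p.Prime]

/-- Moved Sylow subgroups of an element commuting with `x`. -/
theorem Hyp.support_facts [Fact p.Prime] {x t : G} (hx : orderOf x = p) {P : Sylow p G}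
    (hP : (P : Subgroup G) = zpowers x) (hc : Commute t x) (h8 : 8 ≤ Nat.card (Sylow p G))
    {q : ℕ} [Fact q.Prime] (hq : t ^ q = 1) :
    letI := Fintype.ofFinite (Sylow p G)
    letI := Classical.decEq (Sylow p G)
    p ∣ (MulAction.toPermHom G (Sylow p G) t).support.card ∧
      q ∣ (MulAction.toPermHom G (Sylow p G) t).support.card ∧
      (MulAction.toPermHom G (Sylow p G) t).support.card < Nat.card (Sylow p G) ∧
      t • P = P ∧ (t ≠ 1 → (MulAction.toPermHom G (Sylow p G) t).support.card ≠ 0) ∧
      (q = 2 → 4 ∣ (MulAction.toPermHom G (Sylow p G) t).support.card) := by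
  letI := Fintype.ofFinite (Sylow p G)
  letI := Classical.decEq (Sylow p G)
  haveI := h.simple
  set Φ := MulAction.toPermHom G (Sylow p G) with hΦ
  have happ : ∀ (g : G) (R : Sylow p G), Φ g R = g • R := fun _ _ => rfl
  have hxP : x • P = P :=
    Sylow.smul_eq_iff_mem_normalizer.2 (le_normalizer (hP.symm ▸ mem_zpowers x))
  have htP : t • P = P := by
    refine eq_of_smul_eq hx hP ?_
    rw [← mul_smul, ← hc.eq, mul_smul, hxP]
  refine ⟨?_, ?_, ?_, htP, ?_, ?_⟩
  · refine dvd_card_support (σ := Φ x) ?_ ((Commute.map hc Φ).symm) (i := P) ?_ ?_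
    · rw [← map_pow, orderOf_dvd_iff_pow_eq_one.1 hx.dvd, map_one]
    · rw [happ]; exact htP
    · intro R hR
      rw [happ] at hR
      exact eq_of_smul_eq hx hP hR
  · exact prime_dvd_support (by rw [← map_pow, hq, map_one])
  · rw [Nat.card_eq_fintype_card]
    refine Finset.card_lt_univ_of_notMem (x := P) ?_
    rw [Equiv.Perm.notMem_support, happ]
    exact htP
  · intro ht h0
    have hker : Φ.ker = ⊥ := (IsSimpleGroup.eq_bot_or_eq_top_of_normal Φ.ker inferInstance).resolve_right
      fun e => by
        haveI : Subsingleton (Sylow p G) := ⟨fun R R' => by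
          obtain ⟨g, rfl⟩ := MulAction.exists_smul_eq G R R'
          rw [← happ, show Φ g = 1 from MonoidHom.mem_ker.1 (e ▸ mem_top g), Equiv.Perm.one_apply]⟩
        rw [Nat.card_eq_one_iff_unique.2 ⟨inferInstance, ⟨P⟩⟩] at h8
        omega
    rw [Finset.card_eq_zero, Equiv.Perm.support_eq_empty_iff, ← MonoidHom.mem_ker, hker,
      Subgroup.mem_bot] at h0
    exact ht h0
  · rintro rfl
    exact support_card_two (by rw [← map_pow, hq, map_one]) (h.sign_eq_one Φ t)

omit h in
theorem exists_mem_centralizer {x : G} {q : ℕ} [Fact q.Prime]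
    (hq : q ∣ Nat.card (centralizer ({x} : Set G))) :
    ∃ t : G, orderOf t = q ∧ Commute t x := by
  obtain ⟨t, ht⟩ := exists_prime_orderOf_dvd_card' q hq
  exact ⟨t, by rw [Subgroup.orderOf_coe, ht], mem_centralizer_singleton_iff.1 t.2⟩

theorem Hyp.seven_cases {x : G} (hx : orderOf x = 7) :
    Nat.card (centralizer ({x} : Set G)) = 7 ∨ Nat.card (centralizer ({x} : Set G)) = 35 := by
  haveI : Fact (Nat.Prime 7) := ⟨by norm_num⟩
  obtain ⟨P, hP, e, he, he1, hc7, hprod, hn, h8⟩ := h.sylow_data hx (m := 360) (by norm_num) (by norm_num)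
  rw [show (360 : ℕ).divisors.filter (fun d => d % 7 = 1) = {1, 8, 15, 36, 120} from by decide +kernel] at hn
  simp only [Finset.mem_insert, Finset.mem_singleton] at hn
  set c := Nat.card (centralizer ({x} : Set G))
  have hel := Nat.le_of_dvd (by norm_num) he
  rcases hn with hn | hn | hn | hn | hn <;> rw [hn] at hprod h8
  · omega
  · exfalso
    haveI : Fact (Nat.Prime 5) := ⟨by norm_num⟩
    have h5 : 5 ∣ c := by interval_cases e <;> omega
    obtain ⟨t, ht, htc⟩ := exists_mem_centralizer h5
    obtain ⟨a, b, c', -, d, -⟩ := h.support_facts hx hP htc (hn ▸ le_rfl) (q := 5)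
      (by rw [← ht, pow_orderOf_eq_one])
    rw [hn] at c'
    have := d (fun e => by rw [e, orderOf_one] at ht; norm_num at ht)
    omega
  · exfalso
    haveI : Fact (Nat.Prime 2) := ⟨Nat.prime_two⟩
    have h2 : 2 ∣ c := by interval_cases e <;> omega
    obtain ⟨t, ht, htc⟩ := exists_mem_centralizer h2
    obtain ⟨a, -, c', -, d, f⟩ := h.support_facts hx hP htc (by omega) (q := 2)
      (by rw [← ht, pow_orderOf_eq_one])
    rw [hn] at c'
    have := d (fun e => by rw [e, orderOf_one] at ht; norm_num at ht)
    have := f rfl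
    omega
  · right
    interval_cases e <;> omega
  · left
    interval_cases e <;> omega

theorem Hyp.five_cases {x : G} (hx : orderOf x = 5) :
    (Nat.card (Sylow 5 G) = 126 ∧ (Nat.card (centralizer ({x} : Set G)) = 5 ∨
        Nat.card (centralizer ({x} : Set G)) = 10)) ∨
      (Nat.card (Sylow 5 G) = 21 ∧ (Nat.card (centralizer ({x} : Set G)) = 30 ∨
        Nat.card (centralizer ({x} : Set G)) = 60)) ∨
      (Nat.card (Sylow 5 G) = 36 ∧ Nat.card (centralizer ({x} : Set G)) = 35) := by
  haveI : Fact (Nat.Prime 5) := ⟨by norm_num⟩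
  obtain ⟨P, hP, e, he, he1, hc5, hprod, hn, h8⟩ := h.sylow_data hx (m := 504) (by norm_num) (by norm_num)
  rw [show (504 : ℕ).divisors.filter (fun d => d % 5 = 1) = {1, 6, 21, 36, 56, 126} from by decide +kernel] at hn
  simp only [Finset.mem_insert, Finset.mem_singleton] at hn
  set c := Nat.card (centralizer ({x} : Set G))
  obtain ⟨j, hj, rfl⟩ := (Nat.dvd_prime_pow Nat.prime_two).1 (show e ∣ 2 ^ 2 from he)
  rcases hn with hn | hn | hn | hn | hn | hn <;> rw [hn] at hprod h8
  · omega
  · omega
  · exact Or.inr (Or.inl ⟨hn, by interval_cases j <;> simp only [pow_zero, pow_one, Nat.reducePow] at hprod he1 <;> omega⟩)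
  · exact Or.inr (Or.inr ⟨hn, by interval_cases j <;> simp only [pow_zero, pow_one, Nat.reducePow] at hprod he1 <;> omega⟩)
  · exfalso; interval_cases j <;> simp only [pow_zero, pow_one, Nat.reducePow] at hprod he1 <;> omega
  · exact Or.inl ⟨hn, by interval_cases j <;> simp only [pow_zero, pow_one, Nat.reducePow] at hprod he1 <;> omega⟩

/-- There are not 36 Sylow 5-subgroups. -/
theorem Hyp.five_ne_36 {x : G} (hx : orderOf x = 5) :
    Nat.card (Sylow 5 G) ≠ 36 := by
  intro hn
  haveI : Fact (Nat.Prime 5) := ⟨by norm_num⟩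
  haveI : Fact (Nat.Prime 7) := ⟨by norm_num⟩
  haveI : Fact (Nat.Prime 2) := ⟨Nat.prime_two⟩
  haveI := h.simple
  obtain ⟨P, hP, e, he, he1, -, hprod, -, -⟩ := h.sylow_data hx (m := 504) (by norm_num) (by norm_num)
  have hc35 : Nat.card (centralizer ({x} : Set G)) = 35 := by
    rcases h.five_cases hx with ⟨h', -⟩ | ⟨h', -⟩ | ⟨-, h'⟩
    · omega
    · omega
    · exact h'
  rw [hc35, hn] at hprod
  set C := centralizer ({x} : Set G)
  set N := normalizer ((P : Subgroup G) : Set G)
  have hN : Nat.card N = 70 := by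
    have := SmallGroups.Sylow.card_normalizer_mul P
    rw [h.card, hn] at this
    change Nat.card N * 36 = 2520 at this
    omega
  have hCN : C ≤ N := by
    have e' := SmallGroups.Sylow.centralizer_le_normalizer (P : Subgroup G)
    rwa [show centralizer ((P : Subgroup G) : Set G) = C by rw [hP]; exact centralizer_zpowers_eq x] at e'
  -- elements of `C` fix only `P`
  have hfree : ∀ d ∈ C, d ≠ 1 → ∀ R : Sylow 5 G, d • R = R → R = P := by
    intro d hd hd1 R hR
    have hdd : orderOf d ∣ 35 := hc35 ▸ Subgroup.orderOf_dvd_natCard C hd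
    have hsub : ∀ d' ∈ zpowers d, d' • R = R := fun d' hd' =>
      MulAction.mem_stabilizer_iff.1 (zpowers_le.2 (MulAction.mem_stabilizer_iff.2 hR) hd')
    by_cases h5 : 5 ∣ orderOf d
    · set y := d ^ (orderOf d / 5)
      have hy : orderOf y = 5 := orderOf_pow_orderOf_div (orderOf_pos d).ne' h5
      have hyx : y ∈ (P : Subgroup G) := by
        have hp : IsPGroup 5 (zpowers y) := IsPGroup.of_card (n := 1) (by rw [Nat.card_zpowers, hy, pow_one])
        have hyN : y ∈ N := hCN (pow_mem hd _)
        have e' := hp.inf_normalizer_sylow P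
        rw [show zpowers y ⊓ normalizer (P : Set G) = zpowers y from inf_eq_left.2 (zpowers_le.2 hyN)] at e'
        exact (e'.symm ▸ inf_le_right : zpowers y ≤ (P : Subgroup G)) (mem_zpowers y)
      have hP' : (P : Subgroup G) = zpowers y := (Subgroup.eq_of_le_of_card_ge (zpowers_le.2 hyx)
        (by rw [hP, Nat.card_zpowers, Nat.card_zpowers, hx, hy])).symm
      exact eq_of_smul_eq hy hP' (hsub y (pow_mem (mem_zpowers d) _))
    · have h7 : orderOf d = 7 := by
        have hco : Nat.Coprime (orderOf d) 5 :=
          ((Nat.prime_five.coprime_iff_not_dvd).2 h5).symm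
        have h7' : orderOf d ∣ 7 := hco.dvd_of_dvd_mul_left (show orderOf d ∣ 5 * 7 from hdd)
        rcases (Nat.dvd_prime (by norm_num : Nat.Prime 7)).1 h7' with h1 | h1
        · exact absurd (orderOf_eq_one_iff.1 h1) hd1
        · exact h1
      set D := centralizer ({d} : Set G)
      have hxD : x ∈ D := mem_centralizer_singleton_iff.2 (mem_centralizer_singleton_iff.1 hd).symm
      have hD35 : Nat.card D = 35 := by
        have := Subgroup.orderOf_dvd_natCard D hxD
        rcases h.seven_cases h7 with h' | h'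
        · rw [hx, h'] at this; norm_num at this
        · exact h'
      -- `d` normalises `R`, so centralises it
      obtain ⟨y, hy⟩ := exists_prime_orderOf_dvd_card' (G := (R : Subgroup G)) 5 (by
        rw [SmallGroups.Sylow.card_sylow_eq R (a := 1) (m := 504) (by rw [h.card]; norm_num) (by norm_num), pow_one])
      have hy' : orderOf (y : G) = 5 := by rw [Subgroup.orderOf_coe, hy]
      have hR' : (R : Subgroup G) = zpowers (y : G) := (Subgroup.eq_of_le_of_card_ge (zpowers_le.2 y.2)
        (by rw [SmallGroups.Sylow.card_sylow_eq R (a := 1) (m := 504) (by rw [h.card]; norm_num) (by norm_num),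
          Nat.card_zpowers, hy', pow_one])).symm
      have hyc : Nat.card (centralizer ({(y : G)} : Set G)) = 35 := by
        rcases h.five_cases hy' with ⟨h', -⟩ | ⟨h', -⟩ | ⟨-, h'⟩
        · omega
        · omega
        · exact h'
      have hdR : d ∈ normalizer ((R : Subgroup G) : Set G) := Sylow.smul_eq_iff_mem_normalizer.1 hR
      have hdC : d ∈ centralizer ({(y : G)} : Set G) := by
        set NR := normalizer ((R : Subgroup G) : Set G)
        set CR := centralizer ((R : Subgroup G) : Set G)
        have hCR : Nat.card CR = 35 := by rw [show CR = centralizer ({(y : G)} : Set G) by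
          simp only [CR, hR']; exact centralizer_zpowers_eq _]; exact hyc
        have hNR : Nat.card NR = 70 := by
          have := SmallGroups.Sylow.card_normalizer_mul R
          rw [h.card, hn] at this
          change Nat.card NR * 36 = 2520 at this
          omega
        have hrel : CR.relIndex NR = 2 := by
          have := SmallGroups.Sylow.card_centralizer_mul_relIndex (R : Subgroup G)
          change Nat.card CR * CR.relIndex NR = Nat.card NR at this
          rw [hCR, hNR] at this
          omega
        have h2 : (⟨d, hdR⟩ : NR) ^ 2 ∈ CR.subgroupOf NR := by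
          rw [pow_two]
          exact Subgroup.mul_self_mem_of_index_two (H := CR.subgroupOf NR) hrel _
        rw [Subgroup.mem_subgroupOf] at h2
        have h2' : d ^ 2 ∈ centralizer ({(y : G)} : Set G) := by
          rw [← centralizer_zpowers_eq, ← hR']; exact h2
        have e' : d = (d ^ 2) ^ 4 := by
          rw [← pow_mul, show 2 * 4 = orderOf d + 1 by rw [h7], pow_succ, pow_orderOf_eq_one, one_mul]
        rw [e']; exact pow_mem h2' 4
      have hyD : (y : G) ∈ D := mem_centralizer_singleton_iff.2 (mem_centralizer_singleton_iff.1 hdC).symm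
      haveI : Subsingleton (Sylow 5 D) := by
        refine (Nat.card_eq_one_iff_unique.1 ?_).1
        have hm := SmallGroups.Sylow.card_sylow_mem (G := D) (p := 5) (a := 1) (m := 7)
          (by rw [hD35]; norm_num) (by norm_num)
        rw [show (7 : ℕ).divisors.filter (fun d => d % 5 = 1) = {1} from by decide +kernel,
          Finset.mem_singleton] at hm
        exact hm
      have hsame : ∀ Q : Sylow 5 G, (Q : Subgroup G) ≤ D → (Q : Subgroup G).subgroupOf D =
          (default : Sylow 5 D) := by
        intro Q hQ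
        rw [← Subsingleton.elim (Q.subtype hQ) default]
        rfl
      have hPD : (P : Subgroup G) ≤ D := hP ▸ zpowers_le.2 hxD
      have hRD : (R : Subgroup G) ≤ D := hR' ▸ zpowers_le.2 hyD
      refine Sylow.ext ?_
      rw [← Subgroup.map_subgroupOf_eq_of_le hRD, ← Subgroup.map_subgroupOf_eq_of_le hPD,
        hsame R hRD, hsame P hPD]
  -- an involution of `N`
  obtain ⟨t, ht⟩ := exists_prime_orderOf_dvd_card' (G := N) 2 (by rw [hN]; norm_num)
  have ht' : orderOf (t : G) = 2 := by rw [Subgroup.orderOf_coe, ht]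
  have htt : (t : G) * t = 1 := by rw [← pow_two, ← ht', pow_orderOf_eq_one]
  have htinv : (t : G)⁻¹ = t := inv_eq_of_mul_eq_one_right htt
  have htP : (t : G) • P = P := Sylow.smul_eq_iff_mem_normalizer.2 t.2
  have hCconj : ∀ d ∈ C, (t : G) * d * (t : G)⁻¹ ∈ C := by
    intro d hd
    have hCe : C = centralizer ((P : Subgroup G) : Set G) := by rw [hP]; exact (centralizer_zpowers_eq x).symm
    rw [hCe] at hd ⊢
    rw [mem_centralizer_iff] at hd ⊢
    intro z hz
    have hz' : (t : G)⁻¹ * z * (t : G) ∈ (P : Subgroup G) := by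
      have := (mem_normalizer_iff.1 (inv_mem t.2) z).1 hz
      simpa using this
    have := hd _ hz'
    calc z * ((t : G) * d * (t : G)⁻¹) = (t : G) * (((t : G)⁻¹ * z * t) * d) * (t : G)⁻¹ := by group
      _ = (t : G) * (d * ((t : G)⁻¹ * z * t)) * (t : G)⁻¹ := by rw [this]
      _ = _ := by group
  -- no non-trivial element of `C` commutes with `t`
  have hfix : ∀ d ∈ C, Commute d (t : G) → d = 1 := by
    intro d hd hdt
    by_contra hd1
    have hdd : orderOf d ∣ 35 := hc35 ▸ Subgroup.orderOf_dvd_natCard C hd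
    by_cases h5 : 5 ∣ orderOf d
    · set y := d ^ (orderOf d / 5)
      have hy : orderOf y = 5 := orderOf_pow_orderOf_div (orderOf_pos d).ne' h5
      have htC : (t : G) ∈ centralizer ({y} : Set G) :=
        mem_centralizer_singleton_iff.2 (hdt.pow_left _).eq.symm
      have hd2 := Subgroup.orderOf_dvd_natCard _ htC
      rw [ht'] at hd2
      rcases h.five_cases hy with ⟨h', -⟩ | ⟨h', -⟩ | ⟨-, h'⟩
      · omega
      · omega
      · rw [h'] at hd2; norm_num at hd2
    · have hco : Nat.Coprime (orderOf d) 5 := ((Nat.prime_five.coprime_iff_not_dvd).2 h5).symm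
      have h7' : orderOf d ∣ 7 := hco.dvd_of_dvd_mul_left (show orderOf d ∣ 5 * 7 from hdd)
      rcases (Nat.dvd_prime (by norm_num : Nat.Prime 7)).1 h7' with h1 | h1
      · exact hd1 (orderOf_eq_one_iff.1 h1)
      · have hd2 := Subgroup.orderOf_dvd_natCard _
          (mem_centralizer_singleton_iff.2 hdt.eq.symm : (t : G) ∈ centralizer ({d} : Set G))
        rw [ht'] at hd2
        rcases h.seven_cases h1 with h' | h' <;> rw [h'] at hd2 <;> norm_num at hd2
  -- `C` is regular off `P`
  have horb : ∀ R : Sylow 5 G, R ≠ P → orbit C R = {P}ᶜ := by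
    intro R hR
    refine Set.eq_of_subset_of_ncard_le ?_ ?_
    · rintro _ ⟨d, rfl⟩ e'
      refine hR ?_
      have : (d : G) • R = P := e'
      have hdP : (d : G) • P = P := Sylow.smul_eq_iff_mem_normalizer.2 (hCN d.2)
      exact MulAction.injective (d : G) (this.trans hdP.symm)
    · rw [← MulAction.index_stabilizer, Set.ncard_compl, Set.ncard_singleton, hn]
      have hst : stabilizer C R = ⊥ := by
        rw [Subgroup.eq_bot_iff_forall]
        intro d hd
        by_contra hd1
        exact hR (hfree d d.2 (fun e => hd1 (Subtype.ext e)) R (mem_stabilizer_iff.1 hd))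
      rw [hst, Subgroup.index_bot, hc35]
  have hFix : ∀ R R' : Sylow 5 G, R ≠ P → R' ≠ P → (t : G) • R = R → (t : G) • R' = R' → R' = R := by
    intro R R' hR hR' hRt hR't
    obtain ⟨d, hd⟩ : R' ∈ orbit C R := by rw [horb R hR]; exact hR'
    have hd' : (d : G) • R = R' := hd
    set d' := (t : G) * d * (t : G)⁻¹
    have h1 : d' • R = R' := by
      have : (t : G)⁻¹ • R = R := by rw [htinv]; exact hRt
      rw [show d' = (t : G) * d * (t : G)⁻¹ from rfl, mul_smul, mul_smul, this, hd', hR't]
    have h2 : ((d : G)⁻¹ * d') • R = R := by rw [mul_smul, h1, ← hd', inv_smul_smul]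
    have h3 : (d : G)⁻¹ * d' = 1 := by
      by_contra hne
      exact hR (hfree _ (mul_mem (inv_mem d.2) (hCconj d d.2)) hne R h2)
    have h4 : Commute (d : G) (t : G) := (mul_inv_eq_iff_eq_mul.1 (inv_mul_eq_one.1 h3).symm).symm
    rw [← hd', hfix d d.2 h4, one_smul]
  -- the centraliser of `t` is small
  set Ct := centralizer ({(t : G)} : Set G)
  have hFsub : (orbit Ct P).ncard ≤ 2 := by
    have hsub : orbit Ct P ⊆ {R : Sylow 5 G | (t : G) • R = R} := by
      rintro _ ⟨g, rfl⟩
      show (t : G) • (g : G) • P = (g : G) • P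
      rw [← mul_smul, ← mem_centralizer_singleton_iff.1 g.2, mul_smul, htP]
    by_cases hex : ∃ R : Sylow 5 G, R ≠ P ∧ (t : G) • R = R
    · obtain ⟨R, hR, hRt⟩ := hex
      refine (Set.ncard_le_ncard (t := {P, R}) ?_ (Set.toFinite _)).trans ((Set.ncard_insert_le _ _).trans (by simp))
      intro R' hR'
      by_cases hP' : R' = P
      · exact Or.inl hP'
      · exact Or.inr (hFix R R' hR hP' hRt (hsub hR'))
    · push Not at hex
      refine (Set.ncard_le_ncard (t := {P}) ?_ (Set.toFinite _)).trans (by simp)
      intro R' hR'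
      by_contra hne
      exact hex R' hne (hsub hR')
  have hst : Nat.card (stabilizer Ct P) ≤ 2 := by
    set M := stabilizer Ct P
    have hMN : ∀ g : M, ((g : Ct) : G) ∈ N := fun g =>
      Sylow.smul_eq_iff_mem_normalizer.1 (mem_stabilizer_iff.1 g.2)
    -- the stabiliser meets `C` trivially
    let f : M → N ⧸ (C.subgroupOf N) := fun g => QuotientGroup.mk ⟨_, hMN g⟩
    have hf : Function.Injective f := by
      intro g g' hgg
      rw [QuotientGroup.eq, Subgroup.mem_subgroupOf] at hgg
      have hd : ((g : Ct) : G)⁻¹ * ((g' : Ct) : G) ∈ C := hgg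
      have := hfix _ hd ((show Commute ((g : Ct) : G) (t : G) from
        mem_centralizer_singleton_iff.1 (g : Ct).2).inv_left.mul_left
        (mem_centralizer_singleton_iff.1 (g' : Ct).2))
      exact Subtype.ext (Subtype.ext (inv_mul_eq_one.1 this))
    refine (Nat.card_le_card_of_injective f hf).trans ?_
    rw [← Subgroup.index_eq_card]
    have hm := Subgroup.card_mul_index (C.subgroupOf N)
    rw [Nat.card_congr (Subgroup.subgroupOfEquivOfLe hCN).toEquiv, hc35, hN] at hm
    omega
  have hCt : Nat.card Ct ≤ 4 := by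
    have hm := (stabilizer Ct P).index_mul_card
    rw [MulAction.index_stabilizer] at hm
    rw [← hm]
    exact Nat.mul_le_mul hFsub hst
  obtain ⟨e'⟩ := of_involution h.not_cyclic ht' hCt
  have hcard := Nat.card_congr e'.toEquiv
  have h2 := two_mul_nat_card_alternatingGroup (α := Fin 5)
  rw [Nat.card_perm, Nat.card_fin, show (5 : ℕ).factorial = 120 from rfl] at h2
  rw [h.card] at hcard
  omega

theorem Hyp.five {x : G} (hx : orderOf x = 5) :
    (Nat.card (Sylow 5 G) = 126 ∧ (Nat.card (centralizer ({x} : Set G)) = 5 ∨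
        Nat.card (centralizer ({x} : Set G)) = 10)) ∨
      (Nat.card (Sylow 5 G) = 21 ∧ (Nat.card (centralizer ({x} : Set G)) = 30 ∨
        Nat.card (centralizer ({x} : Set G)) = 60)) := by
  rcases h.five_cases hx with h' | h' | h'
  · exact Or.inl h'
  · exact Or.inr h'
  · exact absurd h'.1 (h.five_ne_36 hx)

/-- Elements of order seven are self-centralising. -/
theorem Hyp.seven {x : G} (hx : orderOf x = 7) : Nat.card (centralizer ({x} : Set G)) = 7 := by
  refine (h.seven_cases hx).resolve_right fun h35 => ?_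
  haveI : Fact (Nat.Prime 5) := ⟨by norm_num⟩
  obtain ⟨y, hy, hyx⟩ := exists_mem_centralizer (x := x) (q := 5) (by rw [h35]; norm_num)
  have hd := Subgroup.orderOf_dvd_natCard _
    (mem_centralizer_singleton_iff.2 hyx.eq.symm : x ∈ centralizer ({y} : Set G))
  rw [hx] at hd
  rcases h.five hy with ⟨-, h' | h'⟩ | ⟨-, h' | h'⟩ <;> rw [h'] at hd <;> norm_num at hd

/-- With 21 Sylow 5-subgroups an involution commuting with `x` fixes only `⟨x⟩`. -/
theorem Hyp.fixed_unique [Fact (Nat.Prime 5)] (hn : Nat.card (Sylow 5 G) = 21) {x t : G} (hx : orderOf x = 5)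
    (ht : orderOf t = 2) (hc : Commute t x) {P : Sylow 5 G} (hP : (P : Subgroup G) = zpowers x)
    {R : Sylow 5 G} (hR : t • R = R) : R = P := by
  haveI : Fact (Nat.Prime 2) := ⟨Nat.prime_two⟩
  letI := Fintype.ofFinite (Sylow 5 G)
  letI := Classical.decEq (Sylow 5 G)
  obtain ⟨a, -, c, htP, d, f⟩ := h.support_facts hx hP hc (by omega) (q := 2) (by rw [← ht, pow_orderOf_eq_one])
  have d' := d (fun e => by rw [e, orderOf_one] at ht; norm_num at ht)
  have f' := f rfl
  set π := MulAction.toPermHom G (Sylow 5 G) t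
  rw [hn] at c
  have h20 : π.support.card = 20 := by omega
  by_contra hne
  have hsub : π.support ⊆ ({P, R} : Finset (Sylow 5 G))ᶜ := by
    intro j hj
    rw [Equiv.Perm.mem_support] at hj
    simp only [Finset.mem_compl, Finset.mem_insert, Finset.mem_singleton]
    rintro (rfl | rfl)
    exacts [hj htP, hj hR]
  have := Finset.card_le_card hsub
  rw [h20, Finset.card_compl, Finset.card_pair (Ne.symm hne), ← Nat.card_eq_fintype_card, hn] at this
  omega

/-- No element of order five centralises an involution and an element of order three commuting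
with it. -/
theorem Hyp.not_five_two_three {x t y : G} (hx : orderOf x = 5) (ht : orderOf t = 2)
    (hy : orderOf y = 3) (htx : Commute t x) (hyx : Commute y x) (hty : Commute t y) : False := by
  haveI : Fact (Nat.Prime 5) := ⟨by norm_num⟩
  haveI : Fact (Nat.Prime 3) := ⟨by norm_num⟩
  obtain ⟨P, hP, -, -, -, -, -, -, -⟩ := h.sylow_data hx (m := 504) (by norm_num) (by norm_num)
  have h21 : Nat.card (Sylow 5 G) = 21 := by
    rcases h.five hx with ⟨-, h'⟩ | ⟨h', -⟩
    · have hd := Subgroup.orderOf_dvd_natCard _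
        (mem_centralizer_singleton_iff.2 hyx.eq : y ∈ centralizer ({x} : Set G))
      rw [hy] at hd
      rcases h' with h' | h' <;> rw [h'] at hd <;> norm_num at hd
    · exact h'
  letI := Fintype.ofFinite (Sylow 5 G)
  letI := Classical.decEq (Sylow 5 G)
  obtain ⟨a, b, c, hyP, d, -⟩ := h.support_facts hx hP hyx (by omega) (q := 3)
    (by rw [← hy, pow_orderOf_eq_one])
  have d' := d (fun e => by rw [e, orderOf_one] at hy; norm_num at hy)
  rw [h21] at c
  set π := MulAction.toPermHom G (Sylow 5 G) y
  have h15 : π.support.card = 15 := by omega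
  -- `t` preserves the moved set and fixes none of its points
  haveI : Fact (Nat.Prime 2) := ⟨Nat.prime_two⟩
  have hd := dvd_card_support (p := 2) (σ := MulAction.toPermHom G (Sylow 5 G) t) (π := π)
    (by rw [← map_pow, ← ht, pow_orderOf_eq_one, map_one]) (Commute.map hty _) (i := P) hyP
    (fun j hj => h.fixed_unique h21 hx ht htx hP hj)
  omega

end Cfsg.Agent.Lib.SmallCentralizer.Order2520
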