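/-
Simple groups of order 2520: the Sylow 2-subgroups are dihedral.
-/
import Cfsg.Agent.Lib.SmallCentralizer.Order2520.Sylow
import Cfsg.Agent.Lib.SmallCentralizer.Orbit
import Cfsg.Agent.Lib.PGroups.Recognition

set_option autoImplicit false

namespace Cfsg.Agent.Lib.SmallCentralizer.Order2520

open Subgroup MulAction Cfsg.Agent.Lib.SmallGroups

universe u

variable {G : Type u} [Group G] [Finite G]

/-- The number of cosets fixed by an element whose conjugates in `K` are conjugate in `K`. -/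
theorem fixed_card {K : Subgroup G} {j : G} (hj : j ∈ K)
    (hone : ∀ c : G, c⁻¹ * j * c ∈ K → ∃ k ∈ K, k * j * k⁻¹ = c⁻¹ * j * c) :
    Nat.card (fixedBy (G ⧸ K) j) * Nat.card (centralizer ({j} : Set G) ⊓ K : Subgroup G) =
      Nat.card (centralizer ({j} : Set G)) := by
  set C := centralizer ({j} : Set G)
  have hfix : fixedBy (G ⧸ K) j = orbit C ((1 : G) : G ⧸ K) := by
    ext q
    obtain ⟨c, rfl⟩ := QuotientGroup.mk_surjective q
    rw [Setup.mem_fixed_iff]
    constructor
    · intro hc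
      obtain ⟨k, hkK, hk⟩ := hone c hc
      refine ⟨⟨c * k, mem_centralizer_singleton_iff.2 ?_⟩, ?_⟩
      · calc c * k * j = c * (k * j * k⁻¹) * k := by group
          _ = c * (c⁻¹ * j * c) * k := by rw [hk]
          _ = j * (c * k) := by group
      · show ((c * k * 1 : G) : G ⧸ K) = (c : G ⧸ K)
        rw [mul_one, QuotientGroup.eq]
        simpa using hkK
    · rintro ⟨z, hz⟩
      have hz' : (((z : G) * 1 : G) : G ⧸ K) = (c : G ⧸ K) := hz
      rw [mul_one, QuotientGroup.eq] at hz'
      have hjz : (z : G) * j = j * z := mem_centralizer_singleton_iff.1 z.2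
      have : c⁻¹ * j * c = ((z : G)⁻¹ * c)⁻¹ * j * ((z : G)⁻¹ * c) := by
        calc c⁻¹ * j * c = c⁻¹ * (j * z) * ((z : G)⁻¹ * c) := by group
          _ = c⁻¹ * (z * j) * ((z : G)⁻¹ * c) := by rw [hjz]
          _ = _ := by group
      rw [this]
      exact mul_mem (mul_mem (inv_mem hz') hj) hz'
  have hst : Nat.card (stabilizer C ((1 : G) : G ⧸ K)) = Nat.card (C ⊓ K : Subgroup G) := by
    have hiff : ∀ x : C, x ∈ stabilizer C ((1 : G) : G ⧸ K) ↔ (x : G) ∈ K := by
      intro x
      rw [mem_stabilizer_iff]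
      show (((x : G) * 1 : G) : G ⧸ K) = ((1 : G) : G ⧸ K) ↔ _
      rw [mul_one, eq_comm, QuotientGroup.eq, inv_one, one_mul]
    exact Nat.card_congr
      { toFun := fun x => ⟨((x : C) : G), (x : C).2, (hiff _).1 x.2⟩
        invFun := fun x => ⟨⟨x, x.2.1⟩, (hiff _).2 x.2.2⟩
        left_inv := fun _ => rfl
        right_inv := fun _ => rfl }
  have hmul := (stabilizer C ((1 : G) : G ⧸ K)).index_mul_card
  rw [index_stabilizer, hst] at hmul
  rw [hfix, Nat.card_coe_set_eq, hmul]

/-- A `p`-group normalising a subgroup centralises a subgroup of congruent order. -/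
theorem card_inf_centralizer_modEq {p : ℕ} [Fact p.Prime] {Q R : Subgroup G} (hR : IsPGroup p R)
    (hRQ : R ≤ normalizer (Q : Set G)) :
    Nat.card Q ≡ Nat.card (Q ⊓ centralizer (R : Set G) : Subgroup G) [MOD p] := by
  letI : MulAction R Q :=
    { smul := fun r q => ⟨(r : G) * q * (r : G)⁻¹, (mem_normalizer_iff.1 (hRQ r.2) q).1 q.2⟩
      one_smul := fun q => Subtype.ext (show (1 : G) * q * (1 : G)⁻¹ = q by group)
      mul_smul := fun r s q => Subtype.ext (show ((r : G) * s) * q * ((r : G) * s)⁻¹ =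
        (r : G) * ((s : G) * q * (s : G)⁻¹) * (r : G)⁻¹ by group) }
  suffices e : Nat.card (fixedPoints R Q) = Nat.card (Q ⊓ centralizer (R : Set G) : Subgroup G) from
    e ▸ hR.card_modEq_card_fixedPoints Q
  refine Nat.card_congr
    { toFun := fun q => ⟨((q : Q) : G), (q : Q).2, ?_⟩
      invFun := fun q => ⟨⟨q, q.2.1⟩, ?_⟩
      left_inv := fun _ => rfl
      right_inv := fun _ => rfl }
  · show ((q : Q) : G) ∈ centralizer (R : Set G)
    rw [mem_centralizer_iff]
    intro r hr
    exact mul_inv_eq_iff_eq_mul.1 (congrArg Subtype.val (q.2 ⟨r, hr⟩))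
  · intro r
    refine Subtype.ext ?_
    show (r : G) * q * (r : G)⁻¹ = q
    rw [mem_centralizer_iff.1 q.2.2 r r.2, mul_inv_cancel_right]

variable (h : Hyp G)
include h

theorem Hyp.card_sylow_two (P : Sylow 2 G) : Nat.card (P : Subgroup G) = 8 := by
  haveI : Fact (Nat.Prime 2) := ⟨Nat.prime_two⟩
  rw [SmallGroups.Sylow.card_sylow_eq P (a := 3) (m := 315) (by rw [h.card]; norm_num) (by norm_num)]
  norm_num

/-- An elementary abelian Sylow 2-subgroup does not occur. -/
theorem Hyp.not_elementary (P : Sylow 2 G) : ∃ q ∈ (P : Subgroup G), q * q ≠ 1 := by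
  haveI : Fact (Nat.Prime 2) := ⟨Nat.prime_two⟩
  haveI : Fact (Nat.Prime 3) := ⟨by norm_num⟩
  haveI : Fact (Nat.Prime 5) := ⟨by norm_num⟩
  haveI : Fact (Nat.Prime 7) := ⟨by norm_num⟩
  haveI := h.simple
  by_contra! hsq
  set Q := (P : Subgroup G) with hQdef
  have hQ8 : Nat.card Q = 8 := h.card_sylow_two P
  have hcomm : ∀ a ∈ Q, ∀ b ∈ Q, a * b = b * a := fun a ha b hb =>
    (eq_inv_of_mul_eq_one_left (hsq _ (mul_mem ha hb))).trans (by
      rw [mul_inv_rev, inv_eq_of_mul_eq_one_right (hsq a ha), inv_eq_of_mul_eq_one_right (hsq b hb)])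
  have hQC : Q ≤ centralizer (Q : Set G) := fun a ha => mem_centralizer_iff.2 fun b hb => hcomm b hb a ha
  set H := normalizer (Q : Set G) with hH
  have hQH : Q ≤ H := le_normalizer
  have hHtop : H ≠ ⊤ := by
    refine SmallGroups.Sylow.normalizer_ne_top P ?_
    exact SmallGroups.Sylow.card_sylow_ne_one (a := 3) (m := 315) (by rw [h.card]; norm_num)
      (by norm_num) (by norm_num) (by norm_num)
  have hle := h.card_le hHtop
  have hdvd : Nat.card H ∣ 2520 := h.card ▸ Subgroup.card_subgroup_dvd_card H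
  have h8 : 8 ∣ Nat.card H := hQ8 ▸ Subgroup.card_dvd_of_le hQH
  -- no element of order five normalises `Q`
  have h5 : ¬ 5 ∣ Nat.card H := by
    intro h5
    obtain ⟨x, hx⟩ := exists_prime_orderOf_dvd_card' (G := H) 5 h5
    have hx' : orderOf (x : G) = 5 := by rw [Subgroup.orderOf_coe, hx]
    have hR : IsPGroup 5 (zpowers (x : G)) :=
      IsPGroup.of_card (n := 1) (by rw [Nat.card_zpowers, hx', pow_one])
    have hm := card_inf_centralizer_modEq hR (zpowers_le.2 x.2 : zpowers (x : G) ≤ normalizer (Q : Set G))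
    set D := Q ⊓ centralizer ((zpowers (x : G) : Subgroup G) : Set G)
    rw [hQ8] at hm
    have hDd : Nat.card D ∣ 2 ^ 3 := (Subgroup.card_dvd_of_le inf_le_left).trans (by rw [hQ8]; norm_num)
    obtain ⟨j, hj, hj'⟩ := (Nat.dvd_prime_pow Nat.prime_two).1 hDd
    rw [hj', Nat.ModEq] at hm
    have hDQ : D = Q := by
      refine Subgroup.eq_of_le_of_card_ge inf_le_left ?_
      rw [hj', hQ8]
      interval_cases j <;> revert hm <;> decide
    have hQx : Q ≤ centralizer ({(x : G)} : Set G) := by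
      rw [← centralizer_zpowers_eq, ← hDQ]; exact inf_le_right
    have hd := Subgroup.card_dvd_of_le hQx
    rw [hQ8] at hd
    rcases h.five hx' with ⟨-, h' | h'⟩ | ⟨-, h' | h'⟩ <;> rw [h'] at hd <;> norm_num at hd
  -- seven divides the order of the normaliser
  have h7 : 7 ∣ Nat.card H := by
    by_contra h7
    obtain ⟨R⟩ : Nonempty (Sylow 3 H) := inferInstance
    set R' : Subgroup G := (R : Subgroup H).map H.subtype
    have hR' : IsPGroup 3 R' := R.2.map _
    have hR'H : R' ≤ H := map_subtype_le _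
    have hm := card_inf_centralizer_modEq hR' hR'H
    set D := Q ⊓ centralizer (R' : Set G)
    rw [hQ8] at hm
    obtain ⟨z, hzD, hz1⟩ : ∃ z ∈ D, z ≠ 1 := by
      refine D.bot_or_exists_ne_one.resolve_left fun e => ?_
      rw [e, Subgroup.card_bot] at hm
      exact absurd hm (by decide)
    refine hz1 (SmallGroups.Sylow.eq_one_of_central_in_normalizer h.not_comm P hQC hzD.1 ?_)
    intro n hn
    suffices hall : H ≤ centralizer ({z} : Set G) from mem_centralizer_singleton_iff.1 (hall hn)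
    set Z := H ⊓ centralizer ({z} : Set G)
    have hQZ : Q ≤ Z := le_inf hQH fun q hq => mem_centralizer_singleton_iff.2 (hcomm q hq z hzD.1)
    have hRZ : R' ≤ Z := le_inf hR'H fun r hr =>
      mem_centralizer_singleton_iff.2 (mem_centralizer_iff.1 hzD.2 r hr)
    have h1 := Subgroup.card_dvd_of_le hQZ
    have h2 := Subgroup.card_dvd_of_le hRZ
    rw [hQ8] at h1
    have hR3 : Nat.card R' = 3 ^ (Nat.card H).factorization 3 := by
      rw [Subgroup.card_map_of_injective H.subtype_injective, R.card_eq_multiplicity]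
    rw [hR3] at h2
    have h3 : Nat.card H = 8 * 3 ^ (Nat.card H).factorization 3 := by
      generalize hc : Nat.card H = c at hdvd h8 h5 h7 hle ⊢
      obtain ⟨d, rfl⟩ := h8
      have hd315 : d ∣ 3 ^ 2 * 35 := (Nat.mul_dvd_mul_iff_left (by norm_num : 0 < 8)).1 (by exact hdvd)
      have hd7 : ¬ 7 ∣ d := fun e => h7 (e.mul_left 8)
      have hd5 : ¬ 5 ∣ d := fun e => h5 (e.mul_left 8)
      have hco : Nat.Coprime d 35 := by
        rw [show (35 : ℕ) = 5 * 7 by norm_num]
        exact (((Nat.prime_five.coprime_iff_not_dvd).2 hd5).symm).mul_right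
          ((((by norm_num : Nat.Prime 7)).coprime_iff_not_dvd).2 hd7).symm
      obtain ⟨j, hj, rfl⟩ := (Nat.dvd_prime_pow Nat.prime_three).1 (hco.dvd_of_dvd_mul_right hd315)
      interval_cases j <;> norm_num [Nat.factorization_def _ Nat.prime_three] <;> decide +kernel
    have hHZ : Nat.card H ≤ Nat.card Z := Nat.le_of_dvd Nat.card_pos (by
      rw [h3]
      exact Nat.Coprime.mul_dvd_of_dvd_of_dvd (Nat.Coprime.pow_right _ (by norm_num)) h1 h2)
    rw [← Subgroup.eq_of_le_of_card_ge (inf_le_left : Z ≤ H) hHZ]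
    exact inf_le_right
  obtain ⟨x, hx⟩ := exists_prime_orderOf_dvd_card' (G := H) 7 h7
  have hx' : orderOf (x : G) = 7 := by rw [Subgroup.orderOf_coe, hx]
  -- an involution of `Q`
  obtain ⟨t, htQ, ht1⟩ : ∃ t ∈ Q, t ≠ 1 := by
    refine Q.bot_or_exists_ne_one.resolve_left fun e => ?_
    rw [e, Subgroup.card_bot] at hQ8
    norm_num at hQ8
  have ht2 : orderOf t = 2 := orderOf_eq_prime (by rw [pow_two]; exact hsq t htQ) ht1
  set C := centralizer ({t} : Set G)
  have hxC : ∀ i : Fin 7, (x : G) ^ (i : ℕ) * t = t * (x : G) ^ (i : ℕ) → i = 0 := by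
    intro i hi
    by_contra hne
    have hy : orderOf ((x : G) ^ (i : ℕ)) = 7 := by
      rw [orderOf_pow, hx']
      have : Nat.Coprime 7 (i : ℕ) := ((by norm_num : Nat.Prime 7).coprime_iff_not_dvd).2 fun e => by
        rcases Nat.eq_zero_or_pos (i : ℕ) with h0 | h0
        · exact hne (Fin.ext h0)
        · have := Nat.le_of_dvd h0 e; omega
      rw [this.gcd_eq_one, Nat.div_one]
    have hd := Subgroup.orderOf_dvd_natCard _ (mem_centralizer_singleton_iff.2 hi.symm :
      t ∈ centralizer ({(x : G) ^ (i : ℕ)} : Set G))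
    rw [ht2, h.seven hy] at hd
    norm_num at hd
  let f : Fin 7 → {q : Q // q ≠ 1} := fun i =>
    ⟨⟨(x : G) ^ (i : ℕ) * t * ((x : G) ^ (i : ℕ))⁻¹, (mem_normalizer_iff.1 (pow_mem x.2 _) t).1 htQ⟩,
      fun e => ht1 (conj_eq_one_iff.1 (congrArg Subtype.val e))⟩
  have hf : Function.Injective f := by
    intro i j hij
    have e : (x : G) ^ (i : ℕ) * t * ((x : G) ^ (i : ℕ))⁻¹ = (x : G) ^ (j : ℕ) * t * ((x : G) ^ (j : ℕ))⁻¹ :=
      congrArg (fun q : {q : Q // q ≠ 1} => ((q : Q) : G)) hij
    have hk : (x : G) ^ ((j - i : Fin 7) : ℕ) = ((x : G) ^ (i : ℕ))⁻¹ * (x : G) ^ (j : ℕ) := by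
      rw [eq_inv_mul_iff_mul_eq, ← pow_add, ← pow_mod_orderOf, hx', add_comm, ← Fin.val_add,
        sub_add_cancel]
    have := hxC (j - i) (by
      rw [hk]
      calc ((x : G) ^ (i : ℕ))⁻¹ * (x : G) ^ (j : ℕ) * t
          = ((x : G) ^ (i : ℕ))⁻¹ * ((x : G) ^ (j : ℕ) * t * ((x : G) ^ (j : ℕ))⁻¹) * (x : G) ^ (j : ℕ) := by
            group
        _ = ((x : G) ^ (i : ℕ))⁻¹ * ((x : G) ^ (i : ℕ) * t * ((x : G) ^ (i : ℕ))⁻¹) * (x : G) ^ (j : ℕ) := by
            rw [e]
        _ = _ := by group)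
    exact (sub_eq_zero.1 this).symm
  have hsurj : Function.Surjective f := by
    refine ((Nat.bijective_iff_injective_and_card f).2 ⟨hf, ?_⟩).2
    haveI := Fintype.ofFinite Q
    classical
    rw [Nat.card_fin, Nat.card_eq_fintype_card, Fintype.card_subtype_compl, Fintype.card_subtype_eq,
      ← Nat.card_eq_fintype_card, hQ8]
  have htrans : ∀ q ∈ Q, q ≠ 1 → ∃ i : Fin 7, (x : G) ^ (i : ℕ) * t * ((x : G) ^ (i : ℕ))⁻¹ = q := by
    intro q hq hq1
    obtain ⟨i, hi⟩ := hsurj ⟨⟨q, hq⟩, fun e => hq1 (congrArg Subtype.val e)⟩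
    exact ⟨i, congrArg (fun q : {q : Q // q ≠ 1} => ((q : Q) : G)) hi⟩
  -- involutions of `H` lie in `Q`
  have hinvQ : ∀ g ∈ H, orderOf g = 2 → g ∈ Q := by
    intro g hg ho
    have hp : IsPGroup 2 (zpowers g) := IsPGroup.of_card (n := 1) (by rw [Nat.card_zpowers, ho, pow_one])
    have e := hp.inf_normalizer_sylow P
    rw [show zpowers g ⊓ normalizer (P : Set G) = zpowers g from inf_eq_left.2 (zpowers_le.2 hg)] at e
    exact (e.symm ▸ inf_le_right : zpowers g ≤ Q) (mem_zpowers g)
  have hHC : Nat.card H = 7 * Nat.card (C ⊓ H : Subgroup G) := by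
    rw [← Nat.card_fin 7, ← Nat.card_prod]
    refine (Nat.card_congr (Equiv.ofBijective
      (fun p : Fin 7 × (C ⊓ H : Subgroup G) => (⟨(x : G) ^ (p.1 : ℕ) * p.2, mul_mem (pow_mem x.2 _) p.2.2.2⟩ : H))
      ⟨?_, ?_⟩)).symm
    · rintro ⟨i, c⟩ ⟨j, d⟩ e
      have e' : (x : G) ^ (i : ℕ) * c = (x : G) ^ (j : ℕ) * d := congrArg Subtype.val e
      have hij : f i = f j := by
        refine Subtype.ext (Subtype.ext ?_)
        show (x : G) ^ (i : ℕ) * t * ((x : G) ^ (i : ℕ))⁻¹ = (x : G) ^ (j : ℕ) * t * ((x : G) ^ (j : ℕ))⁻¹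
        have hc := mem_centralizer_singleton_iff.1 c.2.1
        have hd := mem_centralizer_singleton_iff.1 d.2.1
        calc (x : G) ^ (i : ℕ) * t * ((x : G) ^ (i : ℕ))⁻¹
            = (x : G) ^ (i : ℕ) * (t * c) * ((x : G) ^ (i : ℕ) * c)⁻¹ := by group
          _ = ((x : G) ^ (i : ℕ) * c) * t * ((x : G) ^ (i : ℕ) * c)⁻¹ := by rw [← hc]; group
          _ = ((x : G) ^ (j : ℕ) * d) * t * ((x : G) ^ (j : ℕ) * d)⁻¹ := by rw [e']
          _ = (x : G) ^ (j : ℕ) * (t * d) * ((x : G) ^ (j : ℕ) * d)⁻¹ := by rw [← hd]; group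
          _ = _ := by group
      obtain rfl := hf hij
      exact Prod.ext rfl (Subtype.ext (mul_left_cancel e'))
    · rintro ⟨n, hn⟩
      obtain ⟨i, hi⟩ := htrans (n * t * n⁻¹) ((mem_normalizer_iff.1 hn t).1 htQ)
        fun e => ht1 (conj_eq_one_iff.1 e)
      refine ⟨(i, ⟨((x : G) ^ (i : ℕ))⁻¹ * n, mem_centralizer_singleton_iff.2 ?_,
        H.mul_mem (H.inv_mem (H.pow_mem x.2 _)) hn⟩), Subtype.ext (mul_inv_cancel_left _ n)⟩
      calc ((x : G) ^ (i : ℕ))⁻¹ * n * t = ((x : G) ^ (i : ℕ))⁻¹ * (n * t * n⁻¹) * n := by group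
        _ = ((x : G) ^ (i : ℕ))⁻¹ * ((x : G) ^ (i : ℕ) * t * ((x : G) ^ (i : ℕ))⁻¹) * n := by rw [hi]
        _ = _ := by group
  have hfix := fixed_card (K := H) (j := t) (hQH htQ) (fun c hc => by
    have ho : orderOf (c⁻¹ * t * c) = 2 := by
      rw [show c⁻¹ * t * c = MulAut.conj c⁻¹ t by simp, MulEquiv.orderOf_eq, ht2]
    obtain ⟨i, hi⟩ := htrans _ (hinvQ _ hc ho) (fun e => by rw [e, orderOf_one] at ho; norm_num at ho)
    exact ⟨_, pow_mem x.2 _, hi⟩)
  -- Burnside's lemma for `Q` on the cosets of `H`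
  set F := Nat.card (fixedBy (G ⧸ H) t)
  have hall : ∀ q ∈ Q, q ≠ 1 → Nat.card (fixedBy (G ⧸ H) q) = F := by
    intro q hq hq1
    obtain ⟨i, hi⟩ := htrans q hq hq1
    rw [← hi]
    exact Setup.fixed_conj _ t
  have hburn : 8 ∣ H.index + 7 * F := by
    classical
    haveI : Fintype Q := Fintype.ofFinite _
    haveI : Fintype (G ⧸ H) := Fintype.ofFinite _
    have hb := sum_card_fixedBy_eq_card_orbits_mul_card_group Q (G ⧸ H)
    have hfc : ∀ q : Q, Fintype.card (fixedBy (G ⧸ H) q) = if q = 1 then H.index else F := by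
      intro q
      rw [← Nat.card_eq_fintype_card, show fixedBy (G ⧸ H) q = fixedBy (G ⧸ H) (q : G) from rfl]
      split_ifs with hq
      · subst hq
        rw [OneMemClass.coe_one, fixedBy_one_eq_univ, Nat.card_congr (Equiv.Set.univ _), Subgroup.index_eq_card]
      · exact hall q q.2 fun e => hq (Subtype.ext e)
    rw [Finset.sum_congr rfl fun q _ => hfc q, Finset.sum_ite, Finset.sum_const, Finset.sum_const,
      Finset.filter_eq', if_pos (Finset.mem_univ _), Finset.card_singleton, one_smul,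
      Finset.filter_ne', Finset.card_erase_of_mem (Finset.mem_univ _), Finset.card_univ,
      ← Nat.card_eq_fintype_card, hQ8, smul_eq_mul] at hb
    exact Dvd.intro_left _ hb.symm
  have hindex := H.card_mul_index
  rw [h.card] at hindex
  -- the centraliser of `t` has order forty
  have hCtop : C ≠ ⊤ := h.centralizer_ne_top ht1
  have hC40 : Nat.card C = 40 := by
    have hCdvd : Nat.card C ∣ 2520 := h.card ▸ Subgroup.card_subgroup_dvd_card C
    have hC8 : 8 ∣ Nat.card C := hQ8 ▸ Subgroup.card_dvd_of_le (fun q hq =>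
      mem_centralizer_singleton_iff.2 (hcomm q hq t htQ) : Q ≤ C)
    have hC7 : ¬ 7 ∣ Nat.card C := by
      intro e
      obtain ⟨y, hy⟩ := exists_prime_orderOf_dvd_card' (G := C) 7 e
      have hd := Subgroup.orderOf_dvd_natCard _ (mem_centralizer_singleton_iff.2
        (mem_centralizer_singleton_iff.1 y.2).symm : t ∈ centralizer ({(y : G)} : Set G))
      rw [ht2, h.seven (by rw [Subgroup.orderOf_coe, hy])] at hd
      norm_num at hd
    have hCle := h.card_le hCtop
    obtain ⟨m, hm⟩ := hC8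
    rw [hm] at hfix hCdvd hC7 hCle ⊢
    have hm315 : m ∣ 315 := (Nat.mul_dvd_mul_iff_left (by norm_num : 0 < 8)).1 (by exact hCdvd)
    have hmmem : m ∈ (315 : ℕ).divisors := Nat.mem_divisors.2 ⟨hm315, by norm_num⟩
    rw [show (315 : ℕ).divisors = {1, 3, 5, 7, 9, 15, 21, 35, 45, 63, 105, 315} from by decide +kernel] at hmmem
    simp only [Finset.mem_insert, Finset.mem_singleton] at hmmem
    obtain ⟨d, hd⟩ := h8
    obtain ⟨e, rfl⟩ : ∃ e, d = 7 * e := by
      refine (Nat.Coprime.dvd_of_dvd_mul_left (by norm_num : Nat.Coprime 7 8) ?_ : 7 ∣ d)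
      rwa [← hd]
    have hcap : Nat.card (C ⊓ H : Subgroup G) = 8 * e := by omega
    rw [hcap] at hfix
    rw [hd] at hindex hle hdvd h5
    have he : e ≤ 5 := by omega
    obtain ⟨r, hr⟩ := hburn
    rcases hmmem with rfl | rfl | rfl | rfl | rfl | rfl | rfl | rfl | rfl | rfl | rfl | rfl <;>
      interval_cases e <;> omega
  -- the Sylow 5-subgroup of `C`
  obtain ⟨y, hy⟩ := exists_prime_orderOf_dvd_card' (G := C) 5 (by rw [hC40]; norm_num)
  have hy' : orderOf (y : G) = 5 := by rw [Subgroup.orderOf_coe, hy]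
  have hyt : Commute t (y : G) := (mem_centralizer_singleton_iff.1 y.2).symm
  obtain ⟨R, hR, -⟩ := h.sylow_data hy' (m := 504) (by norm_num) (by norm_num)
  have hQR : ∀ q ∈ Q, q • R = R := by
    intro q hq
    refine Sylow.smul_eq_iff_mem_normalizer.2 ?_
    haveI : Subsingleton (Sylow 5 C) := by
      refine (Nat.card_eq_one_iff_unique.1 ?_).1
      have hm := SmallGroups.Sylow.card_sylow_mem (G := C) (p := 5) (a := 1) (m := 8)
        (by rw [hC40]; norm_num) (by norm_num)
      rw [show (8 : ℕ).divisors.filter (fun d => d % 5 = 1) = {1} from by decide +kernel,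
        Finset.mem_singleton] at hm
      exact hm
    have hRC : (R : Subgroup G) ≤ C := hR ▸ zpowers_le.2 y.2
    haveI : ((R : Subgroup G).subgroupOf C).Normal := by
      have e : ((R.subtype hRC : Sylow 5 C) : Subgroup C) = (R : Subgroup G).subgroupOf C := rfl
      rw [← e]; exact Sylow.normal_of_subsingleton _
    have hle' := Subgroup.le_normalizer_of_normal_subgroupOf hRC (H := (R : Subgroup G))
    exact hle' (mem_centralizer_singleton_iff.2 (hcomm q hq t htQ))
  have h21 : Nat.card (Sylow 5 G) = 21 := by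
    rcases h.five hy' with ⟨h126, -⟩ | ⟨h', -⟩
    · exfalso
      have hd := Subgroup.card_dvd_of_le (show Q ≤ normalizer ((R : Subgroup G) : Set G) from
        fun q hq => Sylow.smul_eq_iff_mem_normalizer.1 (hQR q hq))
      have e := SmallGroups.Sylow.card_normalizer_mul R
      rw [h.card, h126] at e
      rw [hQ8] at hd
      obtain ⟨d, hd⟩ := hd
      omega
    · exact h'
  have hxR : (x : G) • R = R := by
    have htR : ((x : G) * t * (x : G)⁻¹) • ((x : G) • R) = (x : G) • R := by
      rw [mul_smul, inv_smul_smul, mul_smul, hQR t htQ]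
    refine h.fixed_unique h21 hy' ht2 hyt hR ?_
    -- `t` is a conjugate of an element of `Q` by `x`
    have hq : (x : G)⁻¹ * t * (x : G) ∈ Q := by
      have := (mem_normalizer_iff.1 (inv_mem x.2) t).1 htQ
      simpa using this
    have := hQR _ hq
    rw [mul_smul, mul_smul, inv_smul_eq_iff] at this
    exact this
  have hd := Subgroup.orderOf_dvd_natCard _ (Sylow.smul_eq_iff_mem_normalizer.1 hxR)
  have e := SmallGroups.Sylow.card_normalizer_mul R
  rw [h.card, h21] at e
  have hN : Nat.card (normalizer ((R : Subgroup G) : Set G)) = 120 := by omega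
  rw [hx'] at hd
  have hd' : 7 ∣ Nat.card (normalizer ((R : Subgroup G) : Set G)) := hd
  rw [hN] at hd'
  norm_num at hd'

/-- The Sylow 2-subgroups are dihedral. -/
theorem Hyp.dihedral (P : Sylow 2 G) : Nonempty ((P : Subgroup G) ≃* DihedralGroup 4) := by
  haveI : Fact (Nat.Prime 2) := ⟨Nat.prime_two⟩
  haveI := h.simple
  have h8 := h.card_sylow_two P
  have hPbot : (P : Subgroup G) ≠ ⊥ := fun e => by
    rw [e, Subgroup.card_bot] at h8; norm_num at h8
  have hncyc := sylow_two_not_cyclic h.not_comm P hPbot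
  obtain ⟨q₀, hq₀, hq₀2⟩ := h.not_elementary P
  set X := ↥(P : Subgroup G)
  have hpow : ∀ q : X, q ^ 4 = 1 := by
    intro q
    have hd : orderOf q ∣ 2 ^ 3 := by
      have := orderOf_dvd_natCard q
      rwa [h8] at this
    obtain ⟨j, hj, hj'⟩ := (Nat.dvd_prime_pow Nat.prime_two).1 hd
    rw [← orderOf_dvd_iff_pow_eq_one, hj']
    interval_cases j
    · norm_num
    · norm_num
    · norm_num
    · exact absurd (isCyclic_of_orderOf_eq_card q (by rw [hj', h8]; norm_num)) hncyc
  set a : X := ⟨q₀, hq₀⟩ with ha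
  have ha2 : a * a ≠ 1 := fun e => hq₀2 (congrArg Subtype.val e)
  have hao : orderOf a = 4 := orderOf_eq_prime_pow (p := 2) (n := 1) (by rwa [pow_one, pow_two]) (hpow a)
  have hidx : (zpowers a).index = 2 := by
    have := (zpowers a).card_mul_index
    rw [Nat.card_zpowers, hao, h8] at this
    omega
  obtain ⟨t, ht⟩ : ∃ t, t ∉ zpowers a := by
    by_contra! hall
    have := congrArg Subgroup.index (show zpowers a = ⊤ from eq_top_iff.2 fun y _ => hall y)
    rw [hidx, Subgroup.index_top] at this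
    omega
  haveI := Subgroup.normal_of_index_eq_two hidx
  have hsqcases : ∀ z ∈ zpowers a, z * z = 1 → z = 1 ∨ z = a * a := by
    intro z hz hz2
    obtain ⟨i, rfl⟩ := (isOfFinOrder_of_finite a).mem_powers_iff_mem_zpowers.2 hz
    simp only at hz2 ⊢
    rw [← pow_mod_orderOf, hao] at hz2 ⊢
    have : i % 4 < 4 := Nat.mod_lt _ (by norm_num)
    interval_cases i % 4
    · exact Or.inl (pow_zero a)
    · rw [pow_one] at hz2; exact absurd hz2 ha2
    · exact Or.inr (pow_two a)
    · exfalso
      rw [← pow_add, ← pow_mod_orderOf, hao] at hz2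
      exact ha2 (by rw [← pow_two]; exact hz2)
  have hsq : ∀ q : X, q * q = 1 ∨ q * q = a * a := fun q =>
    hsqcases _ (Subgroup.mul_self_mem_of_index_two hidx q) (by
      rw [← pow_two, ← pow_two, ← pow_mul]; exact hpow q)
  -- the automorphism induced by `t`
  have hconj : t * a * t⁻¹ = a⁻¹ := by
    have hmem : t * a * t⁻¹ ∈ zpowers a := (inferInstance : (zpowers a).Normal).conj_mem a (mem_zpowers a) t
    obtain ⟨i, hi⟩ := (isOfFinOrder_of_finite a).mem_powers_iff_mem_zpowers.2 hmem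
    simp only at hi
    rw [← pow_mod_orderOf, hao] at hi
    have hne : (t * a * t⁻¹) * (t * a * t⁻¹) ≠ 1 := fun e => ha2 (conj_eq_one_iff.1 (show t * (a * a) * t⁻¹ = 1 by
      rw [← e]; simp only [mul_assoc, inv_mul_cancel_left]))
    have : i % 4 < 4 := Nat.mod_lt _ (by norm_num)
    interval_cases i % 4
    · exfalso
      rw [pow_zero] at hi
      exact hne (by rw [← hi, one_mul])
    · -- then `P` is commutative, which transfer forbids
      exfalso
      rw [pow_one] at hi
      have hta : Commute t a := mul_inv_eq_iff_eq_mul.1 hi.symm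
      have hform : ∀ q : X, ∃ i : ℤ, q = a ^ i ∨ q = t * a ^ i := by
        intro q
        by_cases hq : q ∈ zpowers a
        · obtain ⟨i, hi⟩ := mem_zpowers_iff.1 hq
          exact ⟨i, Or.inl hi.symm⟩
        · have : t⁻¹ * q ∈ zpowers a := by
            rw [Subgroup.mul_mem_iff_of_index_two hidx, inv_mem_iff]
            exact iff_of_false ht hq
          obtain ⟨i, hi⟩ := mem_zpowers_iff.1 this
          exact ⟨i, Or.inr (by rw [hi, mul_inv_cancel_left])⟩
      have hcomm : ∀ q r : X, Commute q r := by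
        intro q r
        obtain ⟨i, rfl | rfl⟩ := hform q <;> obtain ⟨j, rfl | rfl⟩ := hform r
        · exact (Commute.refl a).zpow_zpow i j
        · exact (hta.symm.zpow_left i).mul_right ((Commute.refl a).zpow_zpow i j)
        · exact ((hta.zpow_right j)).mul_left ((Commute.refl a).zpow_zpow i j)
        · exact ((Commute.refl t).mul_right (hta.zpow_right j)).mul_left
            ((hta.symm.zpow_left i).mul_right ((Commute.refl a).zpow_zpow i j))
      refine ha2 (Subtype.ext (SmallGroups.Sylow.eq_one_of_central_in_normalizer h.not_comm P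
        (fun p hp => mem_centralizer_iff.2 fun r hr => congrArg Subtype.val (hcomm ⟨r, hr⟩ ⟨p, hp⟩))
        (a * a).2 ?_))
      intro n hn
      refine mul_inv_eq_iff_eq_mul.1 ?_
      have hm : n * (a : G) * n⁻¹ ∈ (P : Subgroup G) := (mem_normalizer_iff.1 hn _).1 a.2
      have e : (n * (a : G) * n⁻¹) * (n * (a : G) * n⁻¹) = n * ((a * a : X) : G) * n⁻¹ := by
        rw [Subgroup.coe_mul]; group
      rcases hsq ⟨_, hm⟩ with h1 | h1
      · exact absurd (conj_eq_one_iff.1 (e.symm.trans (congrArg Subtype.val h1)))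
          (fun h2 => ha2 (Subtype.ext h2))
      · exact e.symm.trans (congrArg Subtype.val h1)
    · exfalso
      exact hne (by rw [← hi, ← pow_add]; exact hpow a)
    · rw [← hi, eq_inv_iff_mul_eq_one, ← pow_succ]
      exact hpow a
  rcases hsq t with h1 | h1
  · exact PGroups.nonempty_dihedral_equiv hao (by rw [pow_two]; exact h1) hconj ht (by rw [h8])
  · exfalso
    obtain ⟨e⟩ := PGroups.nonempty_quaternion_equiv (m := 2) hao (by rw [pow_two, pow_two]; exact h1) hconj ht
      (by rw [h8])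
    have hO : ∀ N : Subgroup G, N.Normal → Odd (Nat.card N) → N = ⊥ := by
      intro N hN hodd
      refine hN.eq_bot_or_eq_top.resolve_right fun e' => ?_
      rw [e', Subgroup.card_top, h.card] at hodd
      exact absurd hodd (by decide)
    have hc := S0201.result P 0 (e.trans (by exact MulEquiv.refl _)) hO
    rw [SmallGroups.Sylow.center_eq_bot h.not_comm, Subgroup.card_bot] at hc
    norm_num at hc

end Cfsg.Agent.Lib.SmallCentralizer.Order2520
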