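/-
Simple groups of order 2520: an element of order four is self-centralising, so the general
set-up applies, with parts of the odd core of orders three and one.
-/
import Cfsg.Agent.Lib.SmallCentralizer.Order2520.Dihedral
import Cfsg.Agent.Lib.SmallCentralizer.Main
import Cfsg.Agent.Lib.DihedralCentralizer.Classify

set_option autoImplicit false

namespace Cfsg.Agent.Lib.SmallCentralizer.Order2520

open Subgroup Cfsg.Agent.Lib.DihedralBlock Cfsg.Agent.Lib.DihedralBlock.Sections
open Cfsg.Agent.Lib.DihedralBlock.Order Cfsg.Agent.Lib.Fusion Cfsg.Agent.Lib.SmallGroups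

universe u

theorem arith_one (x : ℕ) (δ : ℤ) (hδ : δ = 1 ∨ δ = -1) :
    (2520 : ℤ) * ((x : ℤ) - δ) ^ 2 ≠ 6912 * x * (x + δ) := by
  intro e
  rcases hδ with rfl | rfl
  · rcases Nat.eq_zero_or_pos x with h0 | h0
    · subst h0; norm_num at e
    · have : (1 : ℤ) ≤ x := by omega
      nlinarith
  · have hx : x ≤ 4 := by
      by_contra hx
      have : (5 : ℤ) ≤ x := by omega
      nlinarith
    interval_cases x <;> norm_num at e

theorem arith_three (x : ℕ) (δ : ℤ) (hδ : δ = 1 ∨ δ = -1) :
    (2520 : ℤ) * ((x : ℤ) - δ) ^ 2 ≠ 768 * x * (x + δ) := by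
  intro e
  rcases hδ with rfl | rfl
  · have hx : x ≤ 4 := by
      by_contra hx
      have : (5 : ℤ) ≤ x := by omega
      nlinarith
    interval_cases x <;> norm_num at e
  · rcases Nat.eq_zero_or_pos x with h0 | h0
    · subst h0; norm_num at e
    · have : (1 : ℤ) ≤ x := by omega
      nlinarith

variable {G : Type u} [Group G] [Finite G] (h : Hyp G)
include h

/-- An element of order four does not centralise an element of order five. -/
theorem Hyp.not_four_five {σ y : G} (hσ : orderOf σ = 4) (hy : orderOf y = 5) (hc : Commute σ y) :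
    False := by
  classical
  haveI : Fact (Nat.Prime 5) := ⟨by norm_num⟩
  haveI : Fact (Nat.Prime 2) := ⟨Nat.prime_two⟩
  obtain ⟨R, hR, -⟩ := h.sylow_data hy (m := 504) (by norm_num) (by norm_num)
  have h21 : Nat.card (Sylow 5 G) = 21 := by
    rcases h.five hy with ⟨-, h'⟩ | ⟨h', -⟩
    · have hd := Subgroup.orderOf_dvd_natCard _
        (mem_centralizer_singleton_iff.2 hc.eq : σ ∈ centralizer ({y} : Set G))
      rw [hσ] at hd
      rcases h' with h' | h' <;> rw [h'] at hd <;> norm_num at hd
    · exact h'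
  letI := Fintype.ofFinite (Sylow 5 G)
  set π := MulAction.toPermHom G (Sylow 5 G) σ with hπ
  have happ : ∀ (g : G) (S : Sylow 5 G), MulAction.toPermHom G (Sylow 5 G) g S = g • S := fun _ _ => rfl
  set t := σ ^ 2 with ht
  have hto : orderOf t = 2 := by
    rw [ht, orderOf_pow, hσ]; norm_num
  have hty : Commute t y := hc.pow_left 2
  have hyR : y • R = R := Sylow.smul_eq_iff_mem_normalizer.2 (le_normalizer (hR.symm ▸ mem_zpowers y))
  have hσR : σ • R = R := eq_of_smul_eq hy hR (by rw [← mul_smul, ← hc.eq, mul_smul, hyR])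
  have hfix : ∀ S, σ • σ • S = S → S = R := fun S hS =>
    h.fixed_unique h21 hy hto hty hR (by rw [ht, pow_two, mul_smul]; exact hS)
  have hsupp : π.support = Finset.univ.erase R := by
    ext S
    simp only [Equiv.Perm.mem_support, Finset.mem_erase, Finset.mem_univ, and_true, hπ, happ]
    refine ⟨fun hne e => hne (e ▸ hσR), fun hne e => hne (hfix S (by rw [e, e]))⟩
  have hall : ∀ n ∈ π.cycleType, n = 4 := by
    intro n hn
    have hn2 := Equiv.Perm.two_le_of_mem_cycleType hn
    have hd : n ∣ 2 ^ 2 := (Equiv.Perm.dvd_of_mem_cycleType hn).trans (by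
      refine orderOf_dvd_of_pow_eq_one ?_
      rw [hπ, ← map_pow, orderOf_dvd_iff_pow_eq_one.1 (show orderOf σ ∣ 2 ^ 2 by rw [hσ]; norm_num), map_one])
    obtain ⟨j, hj, rfl⟩ := (Nat.dvd_prime_pow Nat.prime_two).1 hd
    interval_cases j
    · norm_num at hn2
    · exfalso
      rw [Equiv.Perm.cycleType_def, Multiset.mem_map] at hn
      obtain ⟨c, hc', hcard⟩ := hn
      rw [Finset.mem_val, Equiv.Perm.mem_cycleFactorsFinset_iff] at hc'
      obtain ⟨hcyc, hagree⟩ := hc'
      have hc2 : c ^ 2 = 1 := by
        have := hcyc.orderOf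
        rw [show c.support.card = 2 from hcard.trans (pow_one 2)] at this
        rw [← this, pow_orderOf_eq_one]
      obtain ⟨S, hS⟩ : c.support.Nonempty := by
        rw [← Finset.card_pos, show c.support.card = 2 from hcard.trans (pow_one 2)]; norm_num
      have hS' : c S ∈ c.support := Equiv.Perm.apply_mem_support.2 hS
      have h1 : σ • σ • S = S := by
        show π (π S) = S
        rw [← hagree S hS, ← hagree (c S) hS', ← Equiv.Perm.mul_apply, ← pow_two, hc2, Equiv.Perm.one_apply]
      have hSπ : S ∈ π.support := Equiv.Perm.mem_support.2 (by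
        rw [← hagree S hS]; exact Equiv.Perm.mem_support.1 hS)
      rw [hsupp, Finset.mem_erase] at hSπ
      exact hSπ.1 (hfix S h1)
    · norm_num
  have hsum := π.sum_cycleType
  rw [Multiset.eq_replicate_card.2 hall, Multiset.sum_replicate, smul_eq_mul, hsupp,
    Finset.card_erase_of_mem (Finset.mem_univ _), Finset.card_univ, ← Nat.card_eq_fintype_card, h21] at hsum
  have hs := h.sign_eq_one (MulAction.toPermHom G (Sylow 5 G)) σ
  rw [← hπ, Equiv.Perm.sign_of_cycleType, Multiset.eq_replicate_card.2 hall, Multiset.sum_replicate,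
    Multiset.card_replicate, smul_eq_mul, show Multiset.card π.cycleType = 5 by omega] at hs
  exact absurd hs (by decide)

/-- The set-up, with parts of orders three and one. -/
theorem Hyp.exists_setup : ∃ S : Setup G, Nat.card S.A = 3 ∧ Nat.card S.swap.A = 1 := by
  haveI := h.simple
  haveI : Fact (Nat.Prime 2) := ⟨Nat.prime_two⟩
  haveI : Fact (Nat.Prime 3) := ⟨by norm_num⟩
  haveI : Fact (Nat.Prime 5) := ⟨by norm_num⟩
  haveI : Fact (Nat.Prime 7) := ⟨by norm_num⟩
  obtain ⟨P⟩ : Nonempty (Sylow 2 G) := inferInstance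
  obtain ⟨e⟩ := h.dihedral P
  set σ : G := ((e.symm (DihedralGroup.r 1) : (P : Subgroup G)) : G) with hσ
  have hσP : σ ∈ (P : Subgroup G) := (e.symm (DihedralGroup.r 1)).2
  have hσo : orderOf σ = 4 := by
    rw [hσ, Subgroup.orderOf_coe, MulEquiv.orderOf_eq, DihedralGroup.orderOf_r_one]
  have R : Rot P 4 σ := rot_of_equiv e le_rfl dvd_rfl hσP hσo
  -- reflections and fusion
  have hidx := Classif.SmallOrderKills.index_ne_two h.not_comm
  have three : ∀ U : Subgroup G, U ≤ P → Dihedral.IsFour U →
      3 ∣ (centralizer (U : Set G)).relIndex (normalizer (U : Set G)) := by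
    intro U hU hf
    by_contra h3
    obtain ⟨H, hH⟩ := (Dihedral.Coords.ofEquiv e).exists_index_two (by norm_num) hU hf
      fun n hn hodd => Dihedral.commute_of_not_three hf h3 hn hodd
    exact hidx H hH
  have one_class : ∀ i : G, orderOf i = 2 → IsConj (σ ^ (4 / 2)) i := fun i hi =>
    (Dihedral.Coords.ofEquiv e).isConj_of_three (by norm_num) (fun _ hU hf => three _ hU hf)
      _ _ R.orderOf_half hi
  suffices hC4 : Nat.card (centralizer ({σ} : Set G)) = 4 by
    obtain ⟨S, -⟩ := SmallCentralizer.exists_setup h.not_cyclic hσo hC4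
    have ha := Nat.odd_iff.1 S.A_odd
    have hb := Nat.odd_iff.1 S.swap.A_odd
    by_cases ha1 : Nat.card S.A = 1
    · by_cases hb1 : Nat.card S.swap.A = 1
      · exfalso
        have h8 : Nat.card (centralizer ({S.J} : Set G)) = 8 := by rw [S.card_CJ, S.card_O, ha1, hb1]
        have he : (S.P : Subgroup G) = centralizer ({S.J} : Set G) :=
          Subgroup.eq_of_le_of_card_ge S.le_CJ (by rw [h8, S.rot.card])
        obtain ⟨-, h'⟩ := DihedralCentralizer.simple_order S.orderOf_J
          ((MulEquiv.subgroupCongr he.symm).trans S.eP) S.hidx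
        rcases h' with h' | h' <;> rw [h.card] at h' <;> norm_num at h'
      · refine ⟨S.swap, ?_, S.card_swap_swap.trans ha1⟩
        exact (S.swap.card_eq_2520_of_one (by omega) (S.card_swap_swap.trans ha1)).2
    · by_cases hb1 : Nat.card S.swap.A = 1
      · exact ⟨S, (S.card_eq_2520_of_one (by omega) hb1).2, hb1⟩
      · exfalso
        rcases le_total (Nat.card S.A) (Nat.card S.swap.A) with hh | hh
        · exact S.false_of_both (by omega) hh
        · exact S.swap.false_of_both (by omega) (S.card_swap_swap.symm ▸ hh)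
  -- the centraliser of `σ`
  set J := σ ^ (4 / 2) with hJ
  set O := kern σ 4 with hO
  have hJo : orderOf J = 2 := R.orderOf_half
  have hJσ : Commute J σ := (Commute.refl σ).pow_left _
  set C := centralizer ({σ} : Set G)
  have hσC : σ ∈ C := mem_centralizer_singleton_iff.2 rfl
  have hCJ : Nat.card (centralizer ({J} : Set G)) = Nat.card O * 8 := card_centralizer_half R
  have hJ1 : J ≠ 1 := R.half_ne
  have hCJle : Nat.card O * 8 ≤ 315 := hCJ ▸ h.card_le (h.centralizer_ne_top hJ1)
  have hOd : Nat.card O ∣ 315 := by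
    have hd : Nat.card O * 8 ∣ 315 * 8 := by
      rw [← hCJ, show 315 * 8 = 2520 by norm_num, ← h.card]; exact Subgroup.card_subgroup_dvd_card _
    exact Nat.dvd_of_mul_dvd_mul_right (by norm_num) hd
  have hodd : ∀ {p : ℕ} [Fact p.Prime], p ∣ Nat.card C → p ≠ 2 →
      ∃ y : G, orderOf y = p ∧ Commute σ y ∧ Commute J y ∧ y ∈ O := by
    intro p _ hp hp2
    obtain ⟨y, hy, hyc⟩ := exists_mem_centralizer hp
    have hyJ : Commute J y := hyc.symm.pow_left _
    refine ⟨y, hy, hyc.symm, hyJ, mem_kern_of_odd R (mem_centralizer_singleton_iff.2 hyJ.eq.symm) ?_⟩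
    rw [hy]
    exact (Fact.out : p.Prime).odd_of_ne_two hp2
  have hC7 : ¬ 7 ∣ Nat.card C := by
    intro h7
    obtain ⟨y, hy, -, hyJ, -⟩ := hodd h7 (by norm_num)
    have hd := Subgroup.orderOf_dvd_natCard _
      (mem_centralizer_singleton_iff.2 hyJ.eq : J ∈ centralizer ({y} : Set G))
    rw [hJo, h.seven hy] at hd
    norm_num at hd
  have hC5 : ¬ 5 ∣ Nat.card C := fun h5 => by
    obtain ⟨y, hy, hyσ, -, -⟩ := hodd h5 (by norm_num)
    exact h.not_four_five hσo hy hyσ
  have hC3 : ¬ 3 ∣ Nat.card C := by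
    intro h3
    obtain ⟨y, hy, hyσ, hyJ, hyO⟩ := hodd h3 (by norm_num)
    have h3O : 3 ∣ Nat.card O := hy ▸ Subgroup.orderOf_dvd_natCard O hyO
    have hO7 : ¬ 7 ∣ Nat.card O := by
      intro h7
      obtain ⟨x, hx⟩ := exists_prime_orderOf_dvd_card' (G := O) 7 h7
      have hd := Subgroup.orderOf_dvd_natCard _ (mem_centralizer_singleton_iff.2
        (mem_centralizer_singleton_iff.1 (kern_le x.2)).symm : J ∈ centralizer ({(x : G)} : Set G))
      rw [hJo, h.seven (by rw [Subgroup.orderOf_coe, hx])] at hd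
      norm_num at hd
    have hO5 : ¬ 5 ∣ Nat.card O := by
      intro h5
      have hO15 : Nat.card O = 15 := by
        have h15 : 15 ∣ Nat.card O := Nat.Coprime.mul_dvd_of_dvd_of_dvd (by norm_num : Nat.Coprime 3 5) h3O h5
        obtain ⟨m, hm⟩ := h15
        rw [hm] at hOd hCJle
        have hm2 : m ≤ 2 := by omega
        interval_cases m
        · norm_num at hOd
        · exact hm
        · norm_num at hOd
      obtain ⟨x, hx⟩ := exists_prime_orderOf_dvd_card' (G := O) 5 h5
      have hx' : orderOf (x : G) = 5 := by rw [Subgroup.orderOf_coe, hx]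
      haveI : Subsingleton (Sylow 5 O) := by
        refine (Nat.card_eq_one_iff_unique.1 ?_).1
        have hm := SmallGroups.Sylow.card_sylow_mem (G := O) (p := 5) (a := 1) (m := 3)
          (by rw [hO15]; norm_num) (by norm_num)
        rw [show (3 : ℕ).divisors.filter (fun d => d % 5 = 1) = {1} from by decide +kernel,
          Finset.mem_singleton] at hm
        exact hm
      -- `y` normalises, hence centralises, the group of order five
      have hyx : Commute y (x : G) := by
        have hp : IsPGroup 5 (zpowers x) := IsPGroup.of_card (n := 1) (by rw [Nat.card_zpowers, hx, pow_one])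
        obtain ⟨Q, hQ⟩ := hp.exists_le_sylow
        have hQc : Nat.card (Q : Subgroup O) = 5 := by
          rw [SmallGroups.Sylow.card_sylow_eq Q (a := 1) (m := 3) (by rw [hO15]; norm_num) (by norm_num),
            pow_one]
        have hQe : (Q : Subgroup O) = zpowers x :=
          (Subgroup.eq_of_le_of_card_ge hQ (by rw [hQc, Nat.card_zpowers, hx])).symm
        have hn : (Q : Subgroup O).Normal := Q.normal_of_subsingleton
        rw [hQe] at hn
        set y' : O := ⟨y, hyO⟩
        have hconj := hn.conj_mem x (mem_zpowers x) y'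
        obtain ⟨i, hi⟩ := (isOfFinOrder_of_finite x).mem_powers_iff_mem_zpowers.2 hconj
        simp only at hi
        have hy3 : y' ^ 3 = 1 := Subtype.ext (by
          rw [SubgroupClass.coe_pow, OneMemClass.coe_one]
          exact orderOf_dvd_iff_pow_eq_one.1 hy.dvd)
        have hi3 : x = x ^ (i * i * i) := by
          have e1 : ∀ n : ℕ, y' * x ^ n * y'⁻¹ = x ^ (i * n) := fun n => by rw [← conj_pow, ← hi, pow_mul]
          calc x = y' ^ 3 * x * (y' ^ 3)⁻¹ := by rw [hy3, one_mul, inv_one, mul_one]
            _ = y' * (y' * (y' * x ^ 1 * y'⁻¹) * y'⁻¹) * y'⁻¹ := by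
                simp only [pow_succ, pow_zero, one_mul, mul_inv_rev, mul_assoc]
            _ = _ := by rw [e1, e1, e1]; congr 1; ring
        nth_rewrite 1 [← pow_one x] at hi3
        rw [pow_eq_pow_iff_modEq, hx, Nat.ModEq] at hi3
        have hi1 : i % 5 = 1 := by
          have : i % 5 < 5 := Nat.mod_lt _ (by norm_num)
          have e5 : i * i * i % 5 = (i % 5) * (i % 5) * (i % 5) % 5 := by
            rw [Nat.mul_mod, Nat.mul_mod i i]; simp [Nat.mul_mod]
          interval_cases hj : i % 5 <;> omega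
        rw [← pow_mod_orderOf, hx, hi1, pow_one] at hi
        exact congrArg Subtype.val (mul_inv_eq_iff_eq_mul.1 hi.symm)
      have hxJ : Commute J (x : G) := (mem_centralizer_singleton_iff.1 (kern_le x.2)).symm
      exact h.not_five_two_three hx' hJo hy hxJ hyx hyJ
    have hO39 : Nat.card O = 3 ∨ Nat.card O = 9 := by
      have hco : Nat.Coprime (Nat.card O) 35 := by
        rw [show (35 : ℕ) = 5 * 7 by norm_num]
        exact (((Nat.prime_five.coprime_iff_not_dvd).2 hO5).symm).mul_right
          ((((by norm_num : Nat.Prime 7)).coprime_iff_not_dvd).2 hO7).symm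
      obtain ⟨j, hj, hj'⟩ := (Nat.dvd_prime_pow Nat.prime_three).1
        (hco.dvd_of_dvd_mul_right (show Nat.card O ∣ 3 ^ 2 * 35 from hOd))
      rw [hj'] at h3O ⊢
      interval_cases j <;> revert h3O <;> decide
    have hO3 : Nat.card O = 3 := by
      refine hO39.resolve_right fun h9 => ?_
      obtain ⟨Q, hQ⟩ := (IsPGroup.of_card (n := 2) (by rw [h9]; norm_num) : IsPGroup 3 O).exists_le_sylow
      have hQc : Nat.card (Q : Subgroup G) = 9 := by
        rw [SmallGroups.Sylow.card_sylow_eq Q (a := 2) (m := 280) (by rw [h.card]; norm_num) (by norm_num)]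
        norm_num
      have hQe : O = (Q : Subgroup G) := Subgroup.eq_of_le_of_card_ge hQ (by rw [hQc, h9])
      have hle : centralizer ({J} : Set G) ≤ normalizer ((Q : Subgroup G) : Set G) := by
        rw [← hQe]
        intro c hc
        refine mem_normalizer_iff.2 fun k => ⟨fun hk => kern_conj hc hk, fun hk => ?_⟩
        have := kern_conj (inv_mem hc) hk
        simpa [mul_assoc] using this
      have hd := Subgroup.card_dvd_of_le hle
      rw [hCJ, h9] at hd
      have hn := SmallGroups.Sylow.card_normalizer_mul Q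
      rw [h.card] at hn
      have hm := SmallGroups.Sylow.card_sylow_mem (G := G) (p := 3) (a := 2) (m := 280)
        (by rw [h.card]; norm_num) (by norm_num)
      have h8 : 8 ≤ Nat.card (Sylow 3 G) := by
        rw [← SmallGroups.Sylow.index_normalizer Q]
        exact h.eight_le_index (SmallGroups.Sylow.normalizer_ne_top Q
          (SmallGroups.Sylow.card_sylow_ne_one (a := 2) (m := 280) (by rw [h.card]; norm_num)
            (by norm_num) (by norm_num) (by norm_num)))
      rw [show (280 : ℕ).divisors.filter (fun d => d % 3 = 1) = {1, 4, 7, 10, 28, 40, 70, 280} from by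
        decide +kernel] at hm
      simp only [Finset.mem_insert, Finset.mem_singleton] at hm
      obtain ⟨d, hd⟩ := hd
      rcases hm with hm | hm | hm | hm | hm | hm | hm | hm <;> rw [hm] at hn h8 <;> omega
    -- `σ` centralises the odd core
    have hyO' : zpowers y = O := Subgroup.eq_of_le_of_card_ge (zpowers_le.2 hyO)
      (by rw [hO3, Nat.card_zpowers, hy])
    have hσk : ∀ k ∈ O, Commute σ k := by
      intro k hk
      rw [← hyO'] at hk
      obtain ⟨i, rfl⟩ := mem_zpowers_iff.1 hk
      exact hyσ.zpow_right i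
    obtain ⟨τ, hτ, hτz⟩ : ∃ τ ∈ (P : Subgroup G), τ ∉ zpowers σ := by
      by_contra! hall
      have hle := Subgroup.card_le_of_le (show (P : Subgroup G) ≤ zpowers σ from hall)
      rw [R.card, Nat.card_zpowers, hσo] at hle
      omega
    obtain ⟨hτ2, hτσ⟩ := R.inverts τ hτ hτz
    have hστz : σ * τ ∉ zpowers σ := fun e' => hτz (by simpa using mul_mem (inv_mem (mem_zpowers σ)) e')
    have hστ2 := (R.inverts _ (mul_mem hσP hτ) hστz).1
    have hCcard : ∀ p ∈ (P : Subgroup G), p ∉ zpowers σ →
        Nat.card (centralizer ({J, p} : Set G)) = 4 * Nat.card {k : G // k ∈ O ∧ k * p = p * k} := by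
      intro p hp hpz
      haveI := Fintype.ofFinite G
      have h1 := card_invs_refl R hp hpz
      have h2 := card_invs_mul (N := 4) (σ := σ) (R.le_centralizer_half hp) (R.inverts p hp hpz).1
      rw [← h2, ← mul_assoc, mul_right_comm] at h1
      have hpos : 0 < (invs σ 4 p).card := by
        rcases Nat.eq_zero_or_pos (invs σ 4 p).card with e' | e'
        · rw [e', zero_mul] at h2
          exact absurd h2.symm Nat.card_pos.ne'
        · exact e'
      exact Nat.eq_of_mul_eq_mul_right hpos h1
    set c := Nat.card {k : G // k ∈ O ∧ k * τ = τ * k}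
    have hc' : Nat.card {k : G // k ∈ O ∧ k * (σ * τ) = σ * τ * k} = c := by
      refine Nat.card_congr (Equiv.subtypeEquivRight fun k => and_congr_right fun hk => ?_)
      constructor
      · intro e'
        refine mul_left_cancel (a := σ) ?_
        rw [← mul_assoc, (hσk k hk).eq, mul_assoc, e', ← mul_assoc]
      · intro e'
        rw [← mul_assoc, ← (hσk k hk).eq, mul_assoc, e', ← mul_assoc]
    have hc : c = 1 ∨ c = 3 := by
      have hd : c ∣ 3 := by
        rw [← hO3]
        have e' : c = Nat.card (O ⊓ centralizer ({τ} : Set G) : Subgroup G) :=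
          Nat.card_congr (Equiv.subtypeEquivRight fun k => by
            rw [Subgroup.mem_inf, mem_centralizer_singleton_iff])
        rw [e']
        exact Subgroup.card_dvd_of_le inf_le_left
      exact (Nat.dvd_prime Nat.prime_three).1 hd
    -- the order formula
    obtain ⟨M, hM⟩ := Cfsg.Agent.Lib.Blocks.exists_isPModular 2 Nat.prime_two
    obtain ⟨-, χ₁, χ₂, χ₃, χ', δ₁, δ₂, δ₃, hδ₁, -, -, -, hn₁, -, -, -, -, -, -, hB, hvals, -⟩ :=
      Cfsg.Agent.S4481.result M hM 3 le_rfl P ⟨e⟩ σ hσP hσo Complex.I Complex.isPrimitiveRoot_I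
    have hmem : χ₁ ∈ Cfsg.principalBlock M G := by rw [hB]; simp
    have hgen : Subgroup.closure ({σ, τ} : Set G) = (P : Subgroup G) := by
      refine le_antisymm ((closure_le _).2 ?_) fun p hp => ?_
      · rintro z (rfl | rfl)
        exacts [hσP, hτ]
      have hz : zpowers σ ≤ Subgroup.closure ({σ, τ} : Set G) := zpowers_le.2 (subset_closure (by simp))
      by_cases hpz : p ∈ zpowers σ
      · exact hz hpz
      · have := mul_mem (subset_closure (show τ ∈ ({σ, τ} : Set G) by simp))
          (hz (R.prod_mem τ hτ p hp hτz hpz))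
        rwa [← mul_assoc, hτ2, one_mul] at this
    have hτo : orderOf τ = 2 := orderOf_eq_prime (by rw [pow_two]; exact hτ2) fun e' => hτz (e' ▸ one_mem _)
    have hστo : orderOf (σ * τ) = 2 := orderOf_eq_prime (by rw [pow_two]; exact hστ2)
      fun e' => hστz (e' ▸ one_mem _)
    have hF := (Cfsg.Agent.S4482.result M hM 3 le_rfl P σ τ hσP hτ hσo hτo hτσ hgen
      ⟨one_class τ hτo, one_class _ hστo⟩ χ₁ hmem hn₁ δ₁ hδ₁
      (fun l hl0 hl => (hvals l hl0 hl).1)).2
    set x := Cfsg.charDegree (χ₁ : G → ℂ)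
    change (Nat.card G : ℚ) * ((x : ℚ) - δ₁) ^ 2 = 2 * (x : ℚ) * ((x : ℚ) + δ₁) *
      (Nat.card (centralizer ({J} : Set G)) : ℚ) ^ 3 *
      (1 / (Nat.card (centralizer ({J, τ} : Set G)) : ℚ) +
        1 / (Nat.card (centralizer ({J, σ * τ} : Set G)) : ℚ)) ^ 2 at hF
    rw [hCJ, hO3, hCcard τ hτ hτz, hCcard _ (mul_mem hσP hτ) hστz, hc', h.card] at hF
    rcases hc with hc | hc <;> rw [show Nat.card {k : G // k ∈ O ∧ k * τ = τ * k} = c from rfl, hc] at hF <;>
      norm_num at hF
    · refine arith_one x δ₁ hδ₁ ?_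
      have : (2520 : ℚ) * ((x : ℚ) - δ₁) ^ 2 = 6912 * x * (x + δ₁) := by linear_combination hF
      exact_mod_cast this
    · refine arith_three x δ₁ hδ₁ ?_
      have : (2520 : ℚ) * ((x : ℚ) - δ₁) ^ 2 = 768 * x * (x + δ₁) := by linear_combination hF
      exact_mod_cast this
  have hd : Nat.card C ∣ 2 ^ 3 * 315 := by
    have := Subgroup.card_subgroup_dvd_card C
    rwa [h.card] at this
  have hco : Nat.Coprime (Nat.card C) 315 := by
    rw [show (315 : ℕ) = 3 * (3 * (5 * 7)) by norm_num]
    have c3 := ((Nat.prime_three.coprime_iff_not_dvd).2 hC3).symm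
    exact c3.mul_right (c3.mul_right (((Nat.prime_five.coprime_iff_not_dvd).2 hC5).symm.mul_right
      ((((by norm_num : Nat.Prime 7)).coprime_iff_not_dvd).2 hC7).symm))
  have h8 := Nat.le_of_dvd (by norm_num) (hco.dvd_of_dvd_mul_right hd)
  have h4 : 4 ∣ Nat.card C := hσo ▸ Subgroup.orderOf_dvd_natCard C hσC
  -- `C ≠ 8`: otherwise `C` is a Sylow 2-subgroup with `σ` central
  have hne : Nat.card C ≠ 8 := by
    intro e8
    obtain ⟨Q, hQ⟩ := (IsPGroup.of_card (n := 3) (by rw [e8]; norm_num) : IsPGroup 2 C).exists_le_sylow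
    have hQe : C = (Q : Subgroup G) := Subgroup.eq_of_le_of_card_ge hQ (by rw [h.card_sylow_two Q, e8])
    obtain ⟨e'⟩ := h.dihedral Q
    have R' : Rot Q 4 σ := rot_of_equiv e' le_rfl dvd_rfl (hQe ▸ hσC) hσo
    obtain ⟨τ, hτ, hτz⟩ : ∃ τ ∈ (Q : Subgroup G), τ ∉ zpowers σ := by
      by_contra! hall
      have hle := Subgroup.card_le_of_le (show (Q : Subgroup G) ≤ zpowers σ from hall)
      rw [R'.card, Nat.card_zpowers, hσo] at hle
      omega
    have h1 := (R'.inverts τ hτ hτz).2
    have hcomm : τ * σ = σ * τ := mem_centralizer_singleton_iff.1 (hQe.symm ▸ hτ : τ ∈ C)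
    rw [hcomm, mul_inv_cancel_right] at h1
    have : orderOf σ ∣ 2 := orderOf_dvd_of_pow_eq_one (by rw [pow_two]; nth_rewrite 2 [h1]; exact mul_inv_cancel σ)
    rw [hσo] at this
    norm_num at this
  omega

end Cfsg.Agent.Lib.SmallCentralizer.Order2520
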