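/-
Simple groups of order 2520: the facts about an element `v` of order three with centraliser of
order 36 from which the seven points are rebuilt.
-/
import Cfsg.Agent.Lib.SmallCentralizer.Order2520.Base

set_option autoImplicit false

namespace Cfsg.Agent.Lib.SmallCentralizer.Order2520

open Subgroup

universe u

/-- The facts used in the combinatorial part. -/
structure Facts {G : Type u} [Group G] [Finite G] (v : G) : Prop where
  order : orderOf v = 3
  inv_conj : IsConj v v⁻¹
  cardC : Nat.card (centralizer ({v} : Set G)) = 36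
  cardG : Nat.card G = 2520
  le_card : ∀ H : Subgroup G, H ≠ ⊤ → Nat.card H ≤ 315
  dvd_72 : ∀ g : G, orderOf g = 3 → Nat.card (centralizer ({g} : Set G)) ∣ 72
  cardI : ∀ i : G, orderOf i = 2 → Nat.card (centralizer ({i} : Set G)) = 24
  inv_T : ∀ i g : G, orderOf i = 2 → orderOf g = 3 → Commute g i → IsConj v g
  inv_unique : ∀ i g g' : G, orderOf i = 2 → orderOf g = 3 → orderOf g' = 3 → Commute g i →
    Commute g' i → g' = g ∨ g' = g⁻¹
  three : ∀ z : G, IsConj v z → Nat.card {i : G // orderOf i = 2 ∧ Commute i z} = 3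
  comm : ∀ z i j : G, IsConj v z → orderOf i = 2 → Commute i z → orderOf j = 2 → Commute j z → Commute i j
  pair : ∀ z i j f : G, IsConj v z → orderOf i = 2 → Commute i z → orderOf j = 2 → Commute j z → i ≠ j →
    Commute f i → Commute f j → Commute f z

variable {G : Type u} [Group G] [Finite G]

theorem orderOf_conj_eq (c x : G) : orderOf (c * x * c⁻¹) = orderOf x := by
  rw [show c * x * c⁻¹ = MulAut.conj c x from rfl, MulEquiv.orderOf_eq]

theorem commute_conj {x y : G} (h : Commute x y) (c : G) : Commute (c * x * c⁻¹) (c * y * c⁻¹) :=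
  Commute.map h (MulAut.conj c).toMonoidHom

omit [Finite G] in
theorem eq_or_inv_of_mem_zpowers {x g : G} (hx : x ^ 3 = 1) (hg : g ∈ zpowers x) :
    g = 1 ∨ g = x ∨ g = x⁻¹ := by
  obtain ⟨i, rfl⟩ := mem_zpowers_iff.1 hg
  have e : x ^ i = x ^ (i % 3) := by
    conv_lhs => rw [show i = i % 3 + 3 * (i / 3) by omega, zpow_add, zpow_mul]
    rw [show x ^ (3 : ℤ) = 1 by exact_mod_cast hx, one_zpow, mul_one]
  rw [e]
  have h1 := Int.emod_nonneg i (show (3 : ℤ) ≠ 0 by norm_num)
  have h2 := Int.emod_lt_of_pos i (show (0 : ℤ) < 3 by norm_num)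
  interval_cases i % 3
  · exact Or.inl (zpow_zero x)
  · exact Or.inr (Or.inl (zpow_one x))
  · refine Or.inr (Or.inr (eq_inv_of_mul_eq_one_left ?_))
    rw [show x ^ (2 : ℤ) = x ^ (2 : ℕ) by norm_cast, ← pow_succ, hx]

/-- The facts hold in a simple group of order 2520 without a subgroup of index seven. -/
theorem Hyp.exists_facts (h : Hyp G) : ∃ v : G, Facts v := by
  haveI := h.simple
  haveI : Fact (Nat.Prime 2) := ⟨Nat.prime_two⟩
  haveI : Fact (Nat.Prime 3) := ⟨by norm_num⟩
  haveI : Fact (Nat.Prime 5) := ⟨by norm_num⟩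
  haveI : Fact (Nat.Prime 7) := ⟨by norm_num⟩
  obtain ⟨S, ha, hb⟩ := h.exists_setup
  obtain ⟨v, hv, hv1⟩ : ∃ v ∈ S.A, v ≠ 1 := by
    refine S.A.bot_or_exists_ne_one.resolve_left fun e => ?_
    rw [e, Subgroup.card_bot] at ha; omega
  have hvo : orderOf v = 3 :=
    ((Nat.dvd_prime Nat.prime_three).1 (ha ▸ Subgroup.orderOf_dvd_natCard S.A hv)).resolve_left
      fun e => hv1 (orderOf_eq_one_iff.1 e)
  have hO3 : Nat.card S.O = 3 := by rw [S.card_O, ha, hb]
  have hOv : S.O = zpowers v := (Subgroup.eq_of_le_of_card_ge (zpowers_le.2 (S.A_le hv))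
    (by rw [hO3, Nat.card_zpowers, hvo])).symm
  have h24 : Nat.card (centralizer ({S.J} : Set G)) = 24 := by rw [S.card_CJ, hO3]
  have hC24 : ∀ i : G, orderOf i = 2 → Nat.card (centralizer ({i} : Set G)) = 24 := fun i hi => by
    rw [card_centralizer_conj (S.one_class hi), h24]
  -- elements of order five are self-centralising
  have hC5 : ∀ x : G, orderOf x = 5 → Nat.card (centralizer ({x} : Set G)) = 5 := by
    intro x hx
    by_contra hne
    have h2 : 2 ∣ Nat.card (centralizer ({x} : Set G)) := by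
      rcases h.five hx with ⟨-, h' | h'⟩ | ⟨-, h' | h'⟩ <;> rw [h'] at hne ⊢ <;>
        first | (exact absurd rfl hne) | norm_num
    obtain ⟨t, ht, htx⟩ := exists_mem_centralizer h2
    have hd := Subgroup.orderOf_dvd_natCard _
      (mem_centralizer_singleton_iff.2 htx.eq.symm : x ∈ centralizer ({t} : Set G))
    rw [hx, hC24 t ht] at hd
    norm_num at hd
  have hd72 : ∀ g : G, orderOf g = 3 → Nat.card (centralizer ({g} : Set G)) ∣ 72 := by
    intro g hg
    set C := centralizer ({g} : Set G)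
    have h5 : ¬ 5 ∣ Nat.card C := by
      intro h5
      obtain ⟨x, hx, hxg⟩ := exists_mem_centralizer h5
      have hd := Subgroup.orderOf_dvd_natCard _
        (mem_centralizer_singleton_iff.2 hxg.eq.symm : g ∈ centralizer ({x} : Set G))
      rw [hg, hC5 x hx] at hd
      norm_num at hd
    have h7 : ¬ 7 ∣ Nat.card C := by
      intro h7
      obtain ⟨x, hx, hxg⟩ := exists_mem_centralizer h7
      have hd := Subgroup.orderOf_dvd_natCard _
        (mem_centralizer_singleton_iff.2 hxg.eq.symm : g ∈ centralizer ({x} : Set G))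
      rw [hg, h.seven hx] at hd
      norm_num at hd
    have hco : Nat.Coprime (Nat.card C) 35 := by
      rw [show (35 : ℕ) = 5 * 7 by norm_num]
      exact (((Nat.prime_five.coprime_iff_not_dvd).2 h5).symm).mul_right
        ((((by norm_num : Nat.Prime 7)).coprime_iff_not_dvd).2 h7).symm
    refine hco.dvd_of_dvd_mul_right ?_
    rw [show 72 * 35 = 2520 by norm_num, ← h.card]
    exact Subgroup.card_subgroup_dvd_card C
  obtain ⟨M, hM⟩ := Cfsg.Agent.Lib.Blocks.exists_isPModular 2 Nat.prime_two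
  obtain ⟨hK1, hK2, hone, hK8⟩ := S.card_K hM hv hv1
  set K := centralizer ({v} : Set G)
  have hK36 : Nat.card K = 36 := by
    have hd := hd72 v hvo
    rw [ha, hb] at hK1 hK2
    obtain ⟨m, hm⟩ := hK2
    rw [hm] at hK1 hK8 hd ⊢
    have hmle : m ≤ 6 := by
      have := Nat.le_of_dvd (by norm_num) hd
      omega
    interval_cases m <;> revert hK1 hK8 hd <;> decide
  have hCU : Nat.card (centralizer ({S.J, S.τ} : Set G)) = 12 := by rw [S.card_CJτ, ha]
  have hCUK : centralizer ({S.J, S.τ} : Set G) ≤ K := fun f hf =>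
    mem_centralizer_singleton_iff.2 (S.commute_of_CJτ hv (mem_centralizer_iff.1 hf S.J (by simp))
      (mem_centralizer_iff.1 hf S.τ (by simp))).eq
  -- `U` is normal in `K`
  have hKN : K ≤ normalizer (S.U : Set G) := by
    obtain ⟨hh, y, hy, h1, h2, hhA⟩ := S.exists_three_cycle
    set N := K ⊓ normalizer (S.U : Set G)
    have hconjU : ∀ f : G, f * S.J * f⁻¹ ∈ S.U → f * S.τ * f⁻¹ ∈ S.U → f ∈ normalizer (S.U : Set G) := by
      intro f hfJ hfτ
      have hle : S.U.map (MulAut.conj f).toMonoidHom ≤ S.U := by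
        rintro _ ⟨p, hp, rfl⟩
        show f * p * f⁻¹ ∈ S.U
        rcases S.U_cases hp with rfl | rfl | rfl | rfl
        · simp
        · exact hfJ
        · exact hfτ
        · rw [show f * (S.τ * S.J) * f⁻¹ = (f * S.τ * f⁻¹) * (f * S.J * f⁻¹) by group]
          exact mul_mem hfτ hfJ
      have heq : S.U.map (MulAut.conj f).toMonoidHom = S.U :=
        Subgroup.eq_of_le_of_card_ge hle (by rw [Subgroup.card_map_of_injective (MulAut.conj f).injective])
      refine mem_normalizer_iff.2 fun p => ⟨fun hp => hle ⟨p, hp, rfl⟩, fun hp => ?_⟩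
      have hp' : f * p * f⁻¹ ∈ S.U.map (MulAut.conj f).toMonoidHom := by rw [heq]; exact hp
      obtain ⟨q, hq, hqp⟩ := hp'
      exact (MulAut.conj f).injective hqp ▸ hq
    have hCN : centralizer ({S.J, S.τ} : Set G) ≤ N := by
      refine le_inf hCUK fun f hf => hconjU f ?_ ?_
      · rw [← mem_centralizer_iff.1 hf S.J (by simp), mul_inv_cancel_right]; exact S.J_mem_U
      · rw [← mem_centralizer_iff.1 hf S.τ (by simp), mul_inv_cancel_right]; exact S.τ_mem_U
    have hyU : y ∈ S.U := by
      rcases hy with rfl | rfl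
      exacts [S.τ_mem_U, mul_mem S.τ_mem_U S.J_mem_U]
    have hhN : hh ∈ N := by
      refine ⟨mem_centralizer_singleton_iff.2 (hhA v hv).eq, hconjU hh ?_ ?_⟩
      · rw [h1]; exact mul_mem hyU S.J_mem_U
      · have e : hh * y * hh⁻¹ = y * (y * S.J) := by
          calc hh * y * hh⁻¹ = hh * (y * S.J * S.J) * hh⁻¹ := by rw [mul_assoc y, S.J_sq, mul_one]
            _ = (hh * (y * S.J) * hh⁻¹) * (hh * S.J * hh⁻¹) := by group
            _ = _ := by rw [h2, h1]
        rcases hy with rfl | rfl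
        · rw [e]; exact mul_mem S.τ_mem_U (mul_mem S.τ_mem_U S.J_mem_U)
        · have eτ : hh * S.τ * hh⁻¹ = (hh * (S.τ * S.J) * hh⁻¹) * (hh * S.J * hh⁻¹)⁻¹ := by group
          rw [eτ, e, h1]
          exact mul_mem (mul_mem hyU (mul_mem hyU S.J_mem_U)) (inv_mem (mul_mem hyU S.J_mem_U))
    have hnot : hh ∉ centralizer ({S.J, S.τ} : Set G) := by
      intro hc
      rw [← mem_centralizer_iff.1 hc S.J (by simp), mul_inv_cancel_right] at h1
      rcases hy with rfl | rfl
      · exact S.τ_ne (mul_eq_right.1 h1.symm)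
      · exact S.τJ_ne (mul_eq_right.1 h1.symm)
    have hd1 := Subgroup.card_dvd_of_le hCN
    have hd2 := Subgroup.card_dvd_of_le (inf_le_left : N ≤ K)
    rw [hCU] at hd1
    rw [hK36] at hd2
    have hne : Nat.card N ≠ 12 := fun e => hnot
      ((Subgroup.eq_of_le_of_card_ge hCN (by rw [e, hCU])).symm ▸ hhN)
    have hNK : N = K := by
      refine Subgroup.eq_of_le_of_card_ge inf_le_left ?_
      rw [hK36]
      obtain ⟨m, hm⟩ := hd1
      have := Nat.le_of_dvd (by norm_num) hd2
      rw [hm] at hd2 hne this ⊢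
      have hm3 : m ≤ 3 := by omega
      interval_cases m <;> revert hd2 hne <;> decide
    exact hNK ▸ inf_le_right
  have hinvU : ∀ i, orderOf i = 2 → Commute i v → i ∈ S.U := by
    intro i hi hiv
    have hiK : i ∈ K := mem_centralizer_singleton_iff.2 hiv.eq
    obtain ⟨k, hk⟩ := isConj_iff.1 (hone ⟨i, hiK⟩ (by rw [← Subgroup.orderOf_coe]; exact hi))
    have hk' : (k : G) * S.J * (k : G)⁻¹ = i := congrArg Subtype.val hk
    rw [← hk']
    exact (mem_normalizer_iff.1 (hKN k.2) _).1 S.J_mem_U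
  have hU2 : ∀ p ∈ S.U, p ≠ 1 → orderOf p = 2 ∧ Commute p v := fun p hp hp1 =>
    ⟨orderOf_eq_prime (by rw [pow_two]; exact S.U_sq hp) hp1, S.commute_U hv hp⟩
  refine ⟨v, hvo, isConj_iff.2 ⟨S.σ, S.σ_inverts (S.A_le hv)⟩, hK36, h.card,
    fun H hH => h.card_le hH, hd72, hC24, ?_, ?_, ?_, ?_, ?_⟩
  · intro i g hi hg hgi
    obtain ⟨c, hc⟩ := isConj_iff.1 (S.one_class hi).symm
    have hJ' : Commute (c * g * c⁻¹) S.J := hc ▸ commute_conj hgi c
    have hmem := S.mem_O hJ'.symm (by rw [orderOf_conj_eq, hg]; decide)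
    rw [hOv] at hmem
    refine IsConj.trans ?_ (isConj_iff.2 ⟨c⁻¹, by group⟩ : IsConj (c * g * c⁻¹) g)
    rcases eq_or_inv_of_mem_zpowers (by rw [← hvo]; exact pow_orderOf_eq_one v) hmem with e | e | e
    · exfalso
      have := congrArg orderOf e
      rw [orderOf_conj_eq, hg, orderOf_one] at this
      norm_num at this
    · rw [e]
    · rw [e]; exact isConj_iff.2 ⟨S.σ, S.σ_inverts (S.A_le hv)⟩
  · intro i g g' hi hg hg' hgi hg'i
    obtain ⟨c, hc⟩ := isConj_iff.1 (S.one_class hi).symm
    have key : ∀ x : G, orderOf x = 3 → Commute x i → c * x * c⁻¹ = v ∨ c * x * c⁻¹ = v⁻¹ := by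
      intro x hx hxi
      have hmem := S.mem_O (hc ▸ commute_conj hxi c : Commute (c * x * c⁻¹) S.J).symm
        (by rw [orderOf_conj_eq, hx]; decide)
      rw [hOv] at hmem
      refine (eq_or_inv_of_mem_zpowers (by rw [← hvo]; exact pow_orderOf_eq_one v) hmem).resolve_left fun e => ?_
      have := congrArg orderOf e
      rw [orderOf_conj_eq, hx, orderOf_one] at this
      norm_num at this
    have hinj := (MulAut.conj c).injective
    rcases key g hg hgi with e | e <;> rcases key g' hg' hg'i with e' | e'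
    · exact Or.inl (hinj (e'.trans e.symm))
    · refine Or.inr (hinj ?_)
      rw [map_inv]; exact e'.trans (congrArg _ e.symm)
    · refine Or.inr (hinj ?_)
      rw [map_inv]; exact e'.trans (by rw [show MulAut.conj c g = v⁻¹ from e, inv_inv])
    · exact Or.inl (hinj (e'.trans e.symm))
  · intro z hz
    obtain ⟨c, rfl⟩ := isConj_iff.1 hz
    have e : Nat.card {i : G // orderOf i = 2 ∧ Commute i (c * v * c⁻¹)} =
        Nat.card {i : G // orderOf i = 2 ∧ Commute i v} := by
      refine (Nat.card_congr (Equiv.subtypeEquiv (MulAut.conj c).toEquiv fun i => ?_)).symm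
      show orderOf i = 2 ∧ Commute i v ↔ orderOf (c * i * c⁻¹) = 2 ∧ Commute (c * i * c⁻¹) (c * v * c⁻¹)
      rw [orderOf_conj_eq]
      refine and_congr_right fun _ => ⟨fun h' => commute_conj h' c, fun h' => ?_⟩
      simpa [mul_assoc] using commute_conj h' c⁻¹
    rw [e, Nat.card_congr (Equiv.subtypeEquivRight (q := fun i => i ∈ S.U ∧ i ≠ 1) fun i =>
      ⟨fun hi => ⟨hinvU i hi.1 hi.2, fun e' => by rw [e', orderOf_one] at hi; exact absurd hi.1 (by norm_num)⟩,
        fun hi => hU2 i hi.1 hi.2⟩)]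
    have hset : {i : G | i ∈ S.U ∧ i ≠ 1} = (S.U : Set G) \ {1} := by ext i; simp
    show Nat.card {i : G | i ∈ S.U ∧ i ≠ 1} = 3
    rw [hset, Nat.card_coe_set_eq, Set.ncard_sdiff_singleton_of_mem (one_mem _), ← Nat.card_coe_set_eq]
    have := S.card_U
    change Nat.card (S.U : Set G) = 4 at this
    omega
  · intro z i j hz hi hiz hj hjz
    obtain ⟨c, rfl⟩ := isConj_iff.1 hz
    have pull : ∀ i, orderOf i = 2 → Commute i (c * v * c⁻¹) → c⁻¹ * i * c ∈ S.U := fun i hi hiz =>
      hinvU _ (by simpa [orderOf_conj_eq] using (orderOf_conj_eq c⁻¹ i).trans hi)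
        (by simpa [mul_assoc] using commute_conj hiz c⁻¹)
    have hcomm : ∀ p ∈ S.U, ∀ q ∈ S.U, Commute p q := fun p hp q hq =>
      (eq_inv_of_mul_eq_one_left (S.U_sq (mul_mem hp hq))).trans (by
        rw [mul_inv_rev, inv_eq_of_mul_eq_one_right (S.U_sq hp), inv_eq_of_mul_eq_one_right (S.U_sq hq)])
    simpa [mul_assoc] using commute_conj (hcomm _ (pull i hi hiz) _ (pull j hj hjz)) c
  · intro z i j f hz hi hiz hj hjz hij hfi hfj
    obtain ⟨c, rfl⟩ := isConj_iff.1 hz
    have pull : ∀ i, orderOf i = 2 → Commute i (c * v * c⁻¹) →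
        c⁻¹ * i * c ∈ S.U ∧ c⁻¹ * i * c ≠ 1 := fun i hi hiz =>
      ⟨hinvU _ (by simpa [orderOf_conj_eq] using (orderOf_conj_eq c⁻¹ i).trans hi)
        (by simpa [mul_assoc] using commute_conj hiz c⁻¹), fun e => by
          have e2 := (orderOf_conj_eq c⁻¹ i).trans hi
          rw [inv_inv, e, orderOf_one] at e2
          norm_num at e2⟩
    set f' := c⁻¹ * f * c with hf'
    have hfi' : Commute f' (c⁻¹ * i * c) := by simpa [hf', mul_assoc] using commute_conj hfi c⁻¹
    have hfj' : Commute f' (c⁻¹ * j * c) := by simpa [hf', mul_assoc] using commute_conj hfj c⁻¹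
    have hij' : c⁻¹ * i * c ≠ c⁻¹ * j * c := fun e => hij (mul_left_cancel (mul_right_cancel e))
    obtain ⟨hiU, hi1⟩ := pull i hi hiz
    obtain ⟨hjU, hj1⟩ := pull j hj hjz
    set p := c⁻¹ * i * c
    set q := c⁻¹ * j * c
    have hJτ : Commute f' S.J ∧ Commute f' S.τ := by
      rcases S.U_cases hiU with hp | hp | hp | hp
      · exact absurd hp hi1
      all_goals (rcases S.U_cases hjU with hq | hq | hq | hq)
      all_goals first
        | exact absurd hq hj1
        | exact absurd (hp.trans hq.symm) hij'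
        | skip
      all_goals (rw [hp] at hfi'; rw [hq] at hfj')
      · exact ⟨hfi', hfj'⟩
      · refine ⟨hfi', ?_⟩
        have := hfj'.mul_right hfi'
        rwa [mul_assoc, S.J_sq, mul_one] at this
      · exact ⟨hfj', hfi'⟩
      · refine ⟨?_, hfi'⟩
        have := hfi'.mul_right hfj'
        rwa [← mul_assoc, S.τ_sq, one_mul] at this
      · refine ⟨hfj', ?_⟩
        have := hfi'.mul_right hfj'
        rwa [mul_assoc, S.J_sq, mul_one] at this
      · refine ⟨?_, hfj'⟩
        have := hfj'.mul_right hfi'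
        rwa [← mul_assoc, S.τ_sq, one_mul] at this
    have := commute_conj (S.commute_of_CJτ hv hJτ.1.symm hJτ.2.symm) c
    simpa [hf', mul_assoc] using this

end Cfsg.Agent.Lib.SmallCentralizer.Order2520
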