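/-
Simple groups of order 2520: the conjugates of `v` commuting with one of them.
-/
import Cfsg.Agent.Lib.SmallCentralizer.Order2520.Facts

set_option autoImplicit false

namespace Cfsg.Agent.Lib.SmallCentralizer.Order2520

open Subgroup MulAction

universe u

variable {G : Type u} [Group G] [Finite G]

/-- Conjugates of `v` commuting with `z` outside `⟨z⟩`. -/
def Nbr (v z a : G) : Prop := IsConj v a ∧ Commute a z ∧ a ≠ z ∧ a ≠ z⁻¹

namespace Facts

variable {v z a b : G} (F : Facts v)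
include F

theorem order_of_conj (hz : IsConj v z) : orderOf z = 3 := by
  obtain ⟨c, rfl⟩ := isConj_iff.1 hz
  rw [orderOf_conj_eq, F.order]

theorem cube (hz : IsConj v z) : z ^ 3 = 1 := orderOf_dvd_iff_pow_eq_one.1 (F.order_of_conj hz).dvd

theorem ne_one (hz : IsConj v z) : z ≠ 1 := fun e => by
  have := F.order_of_conj hz
  rw [e, orderOf_one] at this
  norm_num at this

theorem inv_ne (hz : IsConj v z) : z⁻¹ ≠ z := fun e => F.ne_one hz (by
  have h3 := F.cube hz
  have h2 : z * z = 1 := by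
    nth_rewrite 1 [← e]
    exact inv_mul_cancel z
  rwa [pow_succ, pow_two, h2, one_mul] at h3)

theorem conj_inv (hz : IsConj v z) : IsConj v z⁻¹ := by
  obtain ⟨c, rfl⟩ := isConj_iff.1 hz
  exact F.inv_conj.trans (isConj_iff.2 ⟨c, by group⟩)

theorem conj_conj (hz : IsConj v z) (c : G) : IsConj v (c * z * c⁻¹) :=
  hz.trans (isConj_iff.2 ⟨c, rfl⟩)

theorem cardC_conj (hz : IsConj v z) : Nat.card (centralizer ({z} : Set G)) = 36 := by
  rw [card_centralizer_conj hz, F.cardC]

theorem nbr_symm (hz : IsConj v z) (h : Nbr v z a) : Nbr v a z :=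
  ⟨hz, h.2.1.symm, fun e => h.2.2.1 e.symm, fun e => h.2.2.2 (by rw [e, inv_inv])⟩

theorem nbr_inv (h : Nbr v z a) : Nbr v z a⁻¹ :=
  ⟨F.conj_inv h.1, h.2.1.inv_left, fun e => h.2.2.2 (by rw [← e, inv_inv]), fun e => h.2.2.1 (inv_injective e)⟩

theorem nbr_conj (h : Nbr v z a) {k : G} (hk : Commute k z) : Nbr v z (k * a * k⁻¹) := by
  have hz' : k * z * k⁻¹ = z := by rw [hk.eq, mul_inv_cancel_right]
  refine ⟨F.conj_conj h.1 k, ?_, fun e => h.2.2.1 ?_, fun e => h.2.2.2 ?_⟩
  · have := commute_conj h.2.1 k; rwa [hz'] at this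
  · exact mul_left_cancel (mul_right_cancel (e.trans hz'.symm))
  · refine mul_left_cancel (mul_right_cancel (e.trans ?_ : k * a * k⁻¹ = k * z⁻¹ * k⁻¹))
    nth_rewrite 1 [← hz']
    group

/-- A neighbour commutes with no involution centralising `z`. -/
theorem no_inv (hz : IsConj v z) (h : Nbr v z a) {i : G} (hi : orderOf i = 2) (hiz : Commute i z) :
    ¬ Commute a i := fun hai => by
  rcases F.inv_unique i z a hi (F.order_of_conj hz) (F.order_of_conj h.1) hiz.symm hai with e | e
  · exact h.2.2.1 e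
  · exact h.2.2.2 e

theorem inv_mul_mem (hz : IsConj v z) {i j : G} (hi : orderOf i = 2) (hiz : Commute i z)
    (hj : orderOf j = 2) (hjz : Commute j z) (hij : i ≠ j) : orderOf (i * j) = 2 ∧ Commute (i * j) z := by
  have hc := F.comm z i j hz hi hiz hj hjz
  refine ⟨orderOf_eq_prime ?_ fun e => hij ?_, hiz.mul_left hjz⟩
  · rw [hc.mul_pow, ← hi, pow_orderOf_eq_one, hi, ← hj, pow_orderOf_eq_one, one_mul]
  · rw [eq_inv_of_mul_eq_one_left e, inv_eq_of_mul_eq_one_right (by rw [← pow_two, ← hj, pow_orderOf_eq_one])]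

/-- The four-group of the involutions centralising `z`. -/
def V (hz : IsConj v z) : Subgroup G where
  carrier := {x | x = 1 ∨ (orderOf x = 2 ∧ Commute x z)}
  one_mem' := Or.inl rfl
  mul_mem' := by
    rintro x y (rfl | hx) (rfl | hy)
    · exact Or.inl (one_mul 1)
    · exact Or.inr (by rwa [one_mul])
    · exact Or.inr (by rwa [mul_one])
    · by_cases hxy : x = y
      · subst hxy
        exact Or.inl (by rw [← pow_two, ← hx.1, pow_orderOf_eq_one])
      · exact Or.inr (F.inv_mul_mem hz hx.1 hx.2 hy.1 hy.2 hxy)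
  inv_mem' := by
    rintro x (rfl | hx)
    · exact Or.inl inv_one
    · exact Or.inr ⟨by rw [orderOf_inv]; exact hx.1, hx.2.inv_left⟩

theorem mem_V (hz : IsConj v z) {x : G} : x ∈ F.V hz ↔ x = 1 ∨ (orderOf x = 2 ∧ Commute x z) := Iff.rfl

theorem V_sq (hz : IsConj v z) {x : G} (hx : x ∈ F.V hz) : x * x = 1 := by
  rcases (F.mem_V hz).1 hx with rfl | h
  · exact one_mul 1
  · rw [← pow_two, ← h.1, pow_orderOf_eq_one]

theorem V_inv (hz : IsConj v z) {x : G} (hx : x ∈ F.V hz) : x⁻¹ = x :=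
  inv_eq_of_mul_eq_one_right (F.V_sq hz hx)

theorem V_commute (hz : IsConj v z) {x y : G} (hx : x ∈ F.V hz) (hy : y ∈ F.V hz) : Commute x y := by
  rcases (F.mem_V hz).1 hx with rfl | hx'
  · exact Commute.one_left y
  rcases (F.mem_V hz).1 hy with rfl | hy'
  · exact Commute.one_right x
  exact F.comm z x y hz hx'.1 hx'.2 hy'.1 hy'.2

theorem V_le (hz : IsConj v z) : F.V hz ≤ centralizer ({z} : Set G) := by
  intro x hx
  rw [mem_centralizer_singleton_iff]
  rcases (F.mem_V hz).1 hx with rfl | h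
  · simp
  · exact h.2.eq

theorem V_conj (hz : IsConj v z) {k x : G} (hk : Commute k z) (hx : x ∈ F.V hz) :
    k * x * k⁻¹ ∈ F.V hz := by
  rcases (F.mem_V hz).1 hx with rfl | h
  · simp
  · refine Or.inr ⟨by rw [orderOf_conj_eq]; exact h.1, ?_⟩
    have := commute_conj h.2 k
    rwa [show k * z * k⁻¹ = z by rw [hk.eq, mul_inv_cancel_right]] at this

theorem card_V (hz : IsConj v z) : Nat.card (F.V hz) = 4 := by
  have h3 := F.three z hz
  show Nat.card {x : G | x = 1 ∨ (orderOf x = 2 ∧ Commute x z)} = 4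
  change Nat.card {x : G | orderOf x = 2 ∧ Commute x z} = 3 at h3
  rw [Nat.card_coe_set_eq] at h3 ⊢
  rw [show {x : G | x = 1 ∨ (orderOf x = 2 ∧ Commute x z)} = insert 1 {x : G | orderOf x = 2 ∧ Commute x z}
    from rfl, Set.ncard_insert_of_notMem (by simp), h3]

theorem exists_inv (hz : IsConj v z) : ∃ e, orderOf e = 2 ∧ Commute e z := by
  obtain ⟨e, he, he1⟩ := (F.V hz).bot_or_exists_ne_one.resolve_left fun e => by
    have := F.card_V hz
    rw [e, Subgroup.card_bot] at this
    norm_num at this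
  exact ⟨e, ((F.mem_V hz).1 he).resolve_left he1⟩

/-- An element centralising `z` and one of its involutions centralises all of them. -/
theorem commute_V (hz : IsConj v z) {k i : G} (hk : Commute k z) (hi : i ∈ F.V hz) (hi1 : i ≠ 1)
    (hki : Commute k i) : ∀ x ∈ F.V hz, Commute k x := by
  obtain ⟨hio, hiz⟩ := ((F.mem_V hz).1 hi).resolve_left hi1
  haveI : Fact (Nat.Prime 3) := ⟨by norm_num⟩
  set M := centralizer ({i} : Set G) ⊓ centralizer ({z} : Set G)
  set Z := M ⊓ centralizer (F.V hz : Set G)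
  have hVZ : F.V hz ≤ Z := le_inf (le_inf (fun x hx => mem_centralizer_singleton_iff.2
    (F.V_commute hz hx hi).eq) (F.V_le hz)) fun x hx => mem_centralizer_iff.2 fun y hy =>
      (F.V_commute hz hy hx).eq
  have hzZ : z ∈ Z := by
    refine ⟨⟨mem_centralizer_singleton_iff.2 hiz.eq.symm, mem_centralizer_singleton_iff.2 rfl⟩,
      mem_centralizer_iff.2 fun y hy => ?_⟩
    exact mem_centralizer_singleton_iff.1 (F.V_le hz hy)
  have h4 := Subgroup.card_dvd_of_le hVZ
  rw [F.card_V hz] at h4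
  have h3 : 3 ∣ Nat.card Z := F.order_of_conj hz ▸ Subgroup.orderOf_dvd_natCard Z hzZ
  have h12 : 12 ∣ Nat.card Z := Nat.Coprime.mul_dvd_of_dvd_of_dvd (by norm_num : Nat.Coprime 4 3) h4 h3
  -- `M` has order at most twelve
  have hM : Nat.card M ∣ 12 := by
    have hd1 := Subgroup.card_dvd_of_le (inf_le_left : M ≤ centralizer ({i} : Set G))
    have hd2 := Subgroup.card_dvd_of_le (inf_le_right : M ≤ centralizer ({z} : Set G))
    rw [F.cardI i hio] at hd1
    rw [F.cardC_conj hz] at hd2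
    exact Nat.dvd_gcd hd1 hd2
  have hkM : k ∈ M := ⟨mem_centralizer_singleton_iff.2 hki.eq, mem_centralizer_singleton_iff.2 hk.eq⟩
  have hMZ : Z = M := Subgroup.eq_of_le_of_card_ge inf_le_left
    ((Nat.le_of_dvd (by norm_num) hM).trans (Nat.le_of_dvd Nat.card_pos h12))
  rw [← hMZ] at hkM
  intro x hx
  exact (mem_centralizer_iff.1 hkM.2 x hx).symm

/-- The elements centralising `z` and a neighbour. -/
def P (_F : Facts v) (z a : G) : Subgroup G := centralizer ({z} : Set G) ⊓ centralizer ({a} : Set G)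

theorem mem_P {p : G} : p ∈ F.P z a ↔ Commute p z ∧ Commute p a := by
  rw [P, Subgroup.mem_inf, mem_centralizer_singleton_iff, mem_centralizer_singleton_iff]
  exact Iff.rfl

theorem V_inf_P (hz : IsConj v z) (h : Nbr v z a) {x : G} (hx : x ∈ F.V hz) (hxP : x ∈ F.P z a) : x = 1 := by
  by_contra hne
  obtain ⟨ho, hxz⟩ := ((F.mem_V hz).1 hx).resolve_left hne
  exact F.no_inv hz h ho hxz (F.mem_P.1 hxP).2.symm

theorem card_P (hz : IsConj v z) (h : Nbr v z a) : Nat.card (F.P z a) = 9 := by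
  haveI : Fact (Nat.Prime 2) := ⟨Nat.prime_two⟩
  have hd := Subgroup.card_dvd_of_le (inf_le_left : F.P z a ≤ centralizer ({z} : Set G))
  rw [F.cardC_conj hz] at hd
  have hodd : ¬ 2 ∣ Nat.card (F.P z a) := by
    intro h2
    obtain ⟨t, ht⟩ := exists_prime_orderOf_dvd_card' (G := F.P z a) 2 h2
    have hto : orderOf (t : G) = 2 := by rw [Subgroup.orderOf_coe, ht]
    exact F.no_inv hz h hto (F.mem_P.1 t.2).1 (F.mem_P.1 t.2).2.symm
  have hzP : z ∈ F.P z a := F.mem_P.2 ⟨Commute.refl z, h.2.1.symm⟩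
  have haP : a ∈ F.P z a := F.mem_P.2 ⟨h.2.1, Commute.refl a⟩
  have h9 : Nat.card (F.P z a) ∣ 3 ^ 2 := by
    have hco : Nat.Coprime (Nat.card (F.P z a)) 4 := by
      rw [show (4 : ℕ) = 2 ^ 2 from rfl]
      exact (((Nat.prime_two.coprime_iff_not_dvd).2 hodd).symm).pow_right 2
    exact hco.dvd_of_dvd_mul_left (show Nat.card (F.P z a) ∣ 4 * 3 ^ 2 from hd)
  obtain ⟨j, hj, hj'⟩ := (Nat.dvd_prime_pow Nat.prime_three).1 h9
  have h3 : 3 ≤ Nat.card (F.P z a) := Nat.le_of_dvd Nat.card_pos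
    (F.order_of_conj hz ▸ Subgroup.orderOf_dvd_natCard _ hzP)
  have hne : Nat.card (F.P z a) ≠ 3 := by
    intro e
    have hPz : zpowers z = F.P z a := Subgroup.eq_of_le_of_card_ge (zpowers_le.2 hzP)
      (by rw [e, Nat.card_zpowers, F.order_of_conj hz])
    rw [← hPz] at haP
    rcases eq_or_inv_of_mem_zpowers (F.cube hz) haP with e' | e' | e'
    · exact F.ne_one h.1 e'
    · exact h.2.2.1 e'
    · exact h.2.2.2 e'
  rw [hj'] at h3 hne ⊢
  interval_cases j <;> revert h3 hne <;> decide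

theorem P_comm (hz : IsConj v z) (h : Nbr v z a) {p q : G} (hp : p ∈ F.P z a) (hq : q ∈ F.P z a) :
    Commute p q := by
  haveI : Fact (Nat.Prime 3) := ⟨by norm_num⟩
  exact congrArg Subtype.val ((IsPGroup.isMulCommutative_of_card_eq_prime_sq (p := 3)
    (by rw [F.card_P hz h]; norm_num)).is_comm.comm (⟨p, hp⟩ : F.P z a) ⟨q, hq⟩)

theorem decomp (hz : IsConj v z) (h : Nbr v z a) {k : G} (hk : Commute k z) :
    ∃ d ∈ F.V hz, ∃ p ∈ F.P z a, k = d * p := by
  let f : F.V hz × F.P z a → centralizer ({z} : Set G) := fun x =>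
    ⟨(x.1 : G) * x.2, mul_mem (F.V_le hz x.1.2)
      (mem_centralizer_singleton_iff.2 (F.mem_P.1 x.2.2).1.eq)⟩
  have hf : Function.Injective f := by
    rintro ⟨⟨d, hd⟩, ⟨p, hp⟩⟩ ⟨⟨d', hd'⟩, ⟨p', hp'⟩⟩ e
    have e' : d * p = d' * p' := congrArg Subtype.val e
    have hq : d'⁻¹ * d = p' * p⁻¹ := by
      calc d'⁻¹ * d = d'⁻¹ * (d * p) * p⁻¹ := by group
        _ = _ := by rw [e']; group
    have := F.V_inf_P hz h (mul_mem (inv_mem hd') hd) (hq ▸ mul_mem hp' (inv_mem hp))
    obtain rfl := (inv_mul_eq_one.1 this).symm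
    exact Prod.ext rfl (Subtype.ext (mul_left_cancel e'))
  have hsurj := ((Nat.bijective_iff_injective_and_card f).2
    ⟨hf, by rw [Nat.card_prod, F.card_V hz, F.card_P hz h, F.cardC_conj hz]⟩).2
  obtain ⟨⟨d, p⟩, e⟩ := hsurj ⟨k, mem_centralizer_singleton_iff.2 hk.eq⟩
  exact ⟨d, d.2, p, p.2, (congrArg Subtype.val e).symm⟩

/-- No element centralising `z` inverts a neighbour. -/
theorem not_inverted (hz : IsConj v z) (h : Nbr v z a) {k : G} (hk : Commute k z) :
    k * a * k⁻¹ ≠ a⁻¹ := by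
  intro e
  obtain ⟨d, hd, p, hp, rfl⟩ := F.decomp hz h hk
  have hpa : p * a * p⁻¹ = a := by rw [(F.mem_P.1 hp).2.eq, mul_inv_cancel_right]
  have e' : d * a * d⁻¹ = a⁻¹ := by
    rw [← e]; nth_rewrite 1 [← hpa]; group
  have hdi := F.V_inv hz hd
  rw [hdi] at e'
  -- then `a d a⁻¹ = d a`
  have hmem : d * a ∈ F.V hz := by
    have h1 : a * d * a⁻¹ ∈ F.V hz := F.V_conj hz h.2.1 hd
    have h2 : a * d * a⁻¹ = d * a := by
      have h3 : a⁻¹ * a⁻¹ = a := by
        rw [← mul_inv_rev, inv_eq_iff_mul_eq_one, ← pow_two, ← pow_succ, F.cube h.1]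
      have h4 : a * d * a = d := by
        calc a * d * a = a * (d * a * d) * d⁻¹ := by group
          _ = _ := by rw [e', mul_inv_cancel, one_mul, hdi]
      calc a * d * a⁻¹ = a * d * a * (a⁻¹ * a⁻¹) := by group
        _ = _ := by rw [h4, h3]
    rw [← h2]; exact h1
  have haV : a ∈ F.V hz := by
    have := mul_mem (inv_mem hd) hmem
    rwa [inv_mul_cancel_left] at this
  have hd2 : a * a = 1 := F.V_sq hz haV
  have h3 := F.cube h.1
  rw [pow_succ, pow_two, hd2, one_mul] at h3
  exact F.ne_one h.1 h3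

theorem card_class : Nat.card {x : G // IsConj v x} = 70 := by
  have e : Nat.card (G ⧸ centralizer ({v} : Set G)) = Nat.card {x : G // IsConj v x} := by
    refine Nat.card_congr (Equiv.ofBijective
      (fun q => ⟨q.out * v * q.out⁻¹, isConj_iff.2 ⟨q.out, rfl⟩⟩) ⟨?_, ?_⟩)
    · intro p q e
      have e' : p.out * v * p.out⁻¹ = q.out * v * q.out⁻¹ := congrArg Subtype.val e
      rw [← QuotientGroup.out_eq' p, ← QuotientGroup.out_eq' q, QuotientGroup.eq,
        mem_centralizer_singleton_iff]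
      calc p.out⁻¹ * q.out * v = p.out⁻¹ * (q.out * v * q.out⁻¹) * q.out := by group
        _ = p.out⁻¹ * (p.out * v * p.out⁻¹) * q.out := by rw [e']
        _ = _ := by group
    · rintro ⟨x, hx⟩
      obtain ⟨c, rfl⟩ := isConj_iff.1 hx
      obtain ⟨k, hk⟩ := QuotientGroup.mk_out_eq_mul (centralizer ({v} : Set G)) c
      refine ⟨(c : G ⧸ _), Subtype.ext ?_⟩
      show (Quotient.out (c : G ⧸ centralizer ({v} : Set G))) * v * _⁻¹ = c * v * c⁻¹
      rw [hk]
      calc c * (k : G) * v * (c * k)⁻¹ = c * ((k : G) * v) * (k : G)⁻¹ * c⁻¹ := by group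
        _ = c * (v * (k : G)) * (k : G)⁻¹ * c⁻¹ := by rw [mem_centralizer_singleton_iff.1 k.2]
        _ = _ := by group
  rw [← e, ← Subgroup.index_eq_card]
  have hm := (centralizer ({v} : Set G)).card_mul_index
  rw [F.cardC, F.cardG] at hm
  omega

/-- Counting the fixed points of `z` on the class. -/
theorem card_nbr_mod (hz : IsConj v z) : Nat.card {x : G // Nbr v z x} % 3 = 2 := by
  haveI : Fact (Nat.Prime 3) := ⟨by norm_num⟩
  letI act : MulAction (zpowers z) {x : G // IsConj v x} :=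
    { smul := fun g x => ⟨(g : G) * x.1 * (g : G)⁻¹, F.conj_conj x.2 _⟩
      one_smul := fun x => Subtype.ext (show (1 : G) * x.1 * (1 : G)⁻¹ = x.1 by group)
      mul_smul := fun g g' x => Subtype.ext (show ((g : G) * g') * x.1 * ((g : G) * g')⁻¹ =
        (g : G) * ((g' : G) * x.1 * (g' : G)⁻¹) * (g : G)⁻¹ by group) }
  have hp : IsPGroup 3 (zpowers z) :=
    IsPGroup.of_card (n := 1) (by rw [Nat.card_zpowers, F.order_of_conj hz, pow_one])
  have hm := hp.card_modEq_card_fixedPoints {x : G // IsConj v x}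
  have hfix : Nat.card (fixedPoints (zpowers z) {x : G // IsConj v x}) =
      Nat.card {x : G // IsConj v x ∧ Commute x z} := by
    refine Nat.card_congr
      { toFun := fun x => ⟨(x : {x : G // IsConj v x}).1, (x : {x : G // IsConj v x}).2, ?_⟩
        invFun := fun x => ⟨⟨x.1, x.2.1⟩, ?_⟩
        left_inv := fun _ => rfl
        right_inv := fun _ => rfl }
    · exact (mul_inv_eq_iff_eq_mul.1 (congrArg Subtype.val (x.2 ⟨z, mem_zpowers z⟩))).symm
    · rintro ⟨g, hg⟩
      obtain ⟨i, rfl⟩ := mem_zpowers_iff.1 hg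
      exact Subtype.ext (mul_inv_eq_iff_eq_mul.2 (x.2.2.zpow_right i).eq.symm)
  have hsplit : Nat.card {x : G // IsConj v x ∧ Commute x z} = Nat.card {x : G // Nbr v z x} + 2 := by
    have hset : {x : G | IsConj v x ∧ Commute x z} = insert z (insert z⁻¹ {x : G | Nbr v z x}) := by
      ext x
      simp only [Set.mem_insert_iff, Set.mem_setOf_eq, Nbr]
      constructor
      · intro hx
        by_cases h1 : x = z
        · exact Or.inl h1
        by_cases h2 : x = z⁻¹
        · exact Or.inr (Or.inl h2)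
        exact Or.inr (Or.inr ⟨hx.1, hx.2, h1, h2⟩)
      · rintro (rfl | rfl | hx)
        · exact ⟨hz, Commute.refl x⟩
        · exact ⟨F.conj_inv hz, (Commute.refl z).inv_left⟩
        · exact ⟨hx.1, hx.2.1⟩
    show Nat.card {x : G | IsConj v x ∧ Commute x z} = Nat.card {x : G | Nbr v z x} + 2
    rw [Nat.card_coe_set_eq, Nat.card_coe_set_eq, hset, Set.ncard_insert_of_notMem,
      Set.ncard_insert_of_notMem]
    · exact fun hx => hx.2.2.2 rfl
    · rintro (hx | hx)
      · exact F.inv_ne hz hx.symm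
      · exact hx.2.2.1 rfl
  rw [hfix, hsplit, F.card_class, Nat.ModEq] at hm
  omega

theorem exists_nbr (hz : IsConj v z) : ∃ a, Nbr v z a := by
  by_contra hne
  push Not at hne
  have h := F.card_nbr_mod hz
  haveI : IsEmpty {x : G // Nbr v z x} := ⟨fun x => hne x.1 x.2⟩
  rw [Nat.card_of_isEmpty] at h
  omega

/-- The neighbours are the conjugates of one of them and of its inverse by the four-group. -/
theorem nbr_cases (hz : IsConj v z) (h : Nbr v z a) (hb : Nbr v z b) :
    ∃ d ∈ F.V hz, b = d * a * d ∨ b = d * a⁻¹ * d := by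
  classical
  set R : Set G := {p | Nbr v z p ∧ Commute p a}
  have hRP : ∀ p ∈ R, p ∈ F.P z a := fun p hp => F.mem_P.2 ⟨hp.1.2.1, hp.2⟩
  -- every neighbour is a conjugate of one in `R`
  have hconj : ∀ c, Nbr v z c → ∃ d ∈ F.V hz, ∃ p ∈ R, c = d * p * d := by
    intro c hc
    obtain ⟨e, he, p, hp, rfl⟩ := F.decomp hz h hc.2.1
    have hpz : Commute p z := (F.mem_P.1 hp).1
    have hfree : ∀ x ∈ F.V hz, Commute p x → x = 1 := by
      intro x hx hpx
      by_contra hx1
      obtain ⟨hxo, hxz⟩ := ((F.mem_V hz).1 hx).resolve_left hx1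
      exact F.no_inv hz hc hxo hxz
        ((F.V_commute hz he hx).mul_left (F.commute_V hz hpz hx hx1 hpx x hx))
    let ψ : F.V hz → F.V hz := fun x => ⟨x * (p * x * p⁻¹), mul_mem x.2 (F.V_conj hz hpz x.2)⟩
    have hψ : Function.Injective ψ := by
      intro x y hxy
      have e' : (x : G) * (p * x * p⁻¹) = y * (p * y * p⁻¹) := congrArg Subtype.val hxy
      have hxy' : p * ((y : G) * x) * p⁻¹ = (y : G) * x := by
        symm
        calc (y : G) * x = y * (((x : G) * (p * x * p⁻¹)) * (p * x * p⁻¹)⁻¹) := by group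
          _ = (y * y) * ((p * y * p⁻¹) * (p * x * p⁻¹)⁻¹) := by rw [e']; group
          _ = p * (y * (x : G)⁻¹) * p⁻¹ := by rw [F.V_sq hz y.2, one_mul]; group
          _ = _ := by rw [F.V_inv hz x.2]
      have := hfree _ (mul_mem y.2 x.2) (mul_inv_eq_iff_eq_mul.1 hxy')
      exact Subtype.ext (((eq_inv_of_mul_eq_one_left this).trans (F.V_inv hz x.2)).symm)
    obtain ⟨d, hd⟩ := Finite.surjective_of_injective hψ ⟨e, he⟩
    have hd' : (d : G) * (p * d * p⁻¹) = e := congrArg Subtype.val hd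
    have hcd : e * p = (d : G) * p * d := by rw [← hd']; group
    refine ⟨d, d.2, p, ⟨?_, (F.mem_P.1 hp).2⟩, hcd⟩
    have hdz : Commute (d : G) z := mem_centralizer_singleton_iff.1 (F.V_le hz d.2)
    have h' := F.nbr_conj hc hdz
    rw [hcd] at h'
    have e1 : (d : G) * (d * p * d) * (d : G)⁻¹ = p := by
      rw [← mul_assoc, ← mul_assoc, F.V_sq hz d.2, one_mul, mul_inv_cancel_right]
    rwa [e1] at h'
  -- counting
  have hbij : Nat.card {x : G // Nbr v z x} = 4 * R.ncard := by
    rw [← F.card_V hz, ← Nat.card_coe_set_eq, ← Nat.card_prod]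
    refine (Nat.card_congr (Equiv.ofBijective (fun x : F.V hz × R =>
      (⟨(x.1 : G) * x.2 * x.1, ?_⟩ : {x : G // Nbr v z x})) ⟨?_, ?_⟩)).symm
    · have := F.nbr_conj x.2.2.1 (mem_centralizer_singleton_iff.1 (F.V_le hz x.1.2))
      rwa [F.V_inv hz x.1.2] at this
    · rintro ⟨⟨d, hd⟩, ⟨p, hp⟩⟩ ⟨⟨d', hd'⟩, ⟨p', hp'⟩⟩ e
      have e' : d * p * d = d' * p' * d' := congrArg Subtype.val e
      set q := d' * d
      have hqV : q ∈ F.V hz := mul_mem hd' hd
      have hq : q * p * q = p' := by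
        calc q * p * q = d' * (d * p * d) * d' := by
              rw [show q = d' * d from rfl]
              nth_rewrite 2 [(F.V_commute hz hd' hd).eq]
              group
          _ = (d' * d') * p' * (d' * d') := by rw [e']; group
          _ = _ := by rw [F.V_sq hz hd', one_mul, mul_one]
      have hmem : q * (p * q * p⁻¹) ∈ F.P z a := by
        rw [show q * (p * q * p⁻¹) = q * p * q * p⁻¹ by group, hq]
        exact mul_mem (hRP p' hp') (inv_mem (hRP p hp))
      have h1 := F.V_inf_P hz h (mul_mem hqV (F.V_conj hz (hp.1.2.1) hqV)) hmem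
      have h2 : Commute p q := by
        refine mul_inv_eq_iff_eq_mul.1 ?_
        calc p * q * p⁻¹ = q⁻¹ * (q * (p * q * p⁻¹)) := by group
          _ = q := by rw [h1, mul_one, F.V_inv hz hqV]
      have hq1 : q = 1 := by
        by_contra hq1
        obtain ⟨hqo, hqz⟩ := ((F.mem_V hz).1 hqV).resolve_left hq1
        exact F.no_inv hz hp.1 hqo hqz h2
      rw [hq1, one_mul, mul_one] at hq
      obtain rfl : d' = d := by
        have := eq_inv_of_mul_eq_one_left hq1
        rwa [F.V_inv hz hd] at this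
      exact Prod.ext rfl (Subtype.ext hq)
    · rintro ⟨c, hc⟩
      obtain ⟨d, hd, p, hp, rfl⟩ := hconj c hc
      exact ⟨(⟨d, hd⟩, ⟨p, hp⟩), rfl⟩
  -- `R` is `{a, a⁻¹}`
  set Y : Set G := (F.P z a : Set G) \ (zpowers z : Set G)
  have hY : Y.ncard = 6 := by
    have hsub : (zpowers z : Set G) ⊆ (F.P z a : Set G) :=
      zpowers_le.2 (F.mem_P.2 ⟨Commute.refl z, h.2.1.symm⟩)
    rw [Set.ncard_sdiff hsub, ← Nat.card_coe_set_eq, ← Nat.card_coe_set_eq]
    show Nat.card (F.P z a) - Nat.card (zpowers z) = 6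
    rw [F.card_P hz h, Nat.card_zpowers, F.order_of_conj hz]
  have hRY : R ⊆ Y := fun p hp => ⟨hRP p hp, fun hpz => by
    rcases eq_or_inv_of_mem_zpowers (F.cube hz) hpz with e | e | e
    · exact F.ne_one hp.1.1 e
    · exact hp.1.2.2.1 e
    · exact hp.1.2.2.2 e⟩
  have haR : a ∈ R := ⟨h, Commute.refl a⟩
  have haR' : a⁻¹ ∈ R := ⟨F.nbr_inv h, (Commute.refl a).inv_left⟩
  have hR2 : ∀ p ∈ R, p = a ∨ p = a⁻¹ := by
    intro p hp
    by_contra hne
    push Not at hne
    have hp' : p⁻¹ ∈ R := ⟨F.nbr_inv hp.1, hp.2.inv_left⟩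
    have h4 : ({p, p⁻¹, a, a⁻¹} : Set G).ncard = 4 := by
      rw [Set.ncard_insert_of_notMem, Set.ncard_insert_of_notMem, Set.ncard_pair (F.inv_ne h.1).symm]
      · simp only [Set.mem_insert_iff, Set.mem_singleton_iff, inv_inj, not_or]
        exact ⟨fun e => hne.2 (by rw [← e, inv_inv]), hne.1⟩
      · simp only [Set.mem_insert_iff, Set.mem_singleton_iff, not_or]
        exact ⟨(F.inv_ne hp.1.1).symm, hne.1, hne.2⟩
    have hsub : ({p, p⁻¹, a, a⁻¹} : Set G) ⊆ R := by
      rintro x (rfl | rfl | rfl | rfl)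
      exacts [hp, hp', haR, haR']
    have hge := Set.ncard_le_ncard hsub (Set.toFinite _)
    have hle := Set.ncard_le_ncard hRY (Set.toFinite _)
    have hmod := F.card_nbr_mod hz
    rw [hbij] at hmod
    have h5 : R.ncard = 5 := by omega
    have hdiff : (Y \ R).ncard = 1 := by rw [Set.ncard_sdiff hRY, hY, h5]
    obtain ⟨q, hq⟩ := Set.ncard_eq_one.1 hdiff
    have hqm : q ∈ Y \ R := by rw [hq]; exact rfl
    have hqi : q⁻¹ ∈ Y \ R := by
      refine ⟨⟨inv_mem hqm.1.1, fun e => hqm.1.2 (inv_mem_iff.1 e)⟩, fun e => hqm.2 ?_⟩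
      have e1 := F.nbr_inv e.1
      have e2 := e.2.inv_left
      rw [inv_inv] at e1 e2
      exact ⟨e1, e2⟩
    rw [hq, Set.mem_singleton_iff] at hqi
    have hq2 : q * q = 1 := by
      nth_rewrite 1 [← hqi]
      exact inv_mul_cancel q
    have hd : orderOf q ∣ 9 := F.card_P hz h ▸ Subgroup.orderOf_dvd_natCard _ hqm.1.1
    have hd2 : orderOf q ∣ 2 := orderOf_dvd_of_pow_eq_one (by rw [pow_two, hq2])
    exact hqm.1.2 (by
      rw [orderOf_eq_one_iff.1 (Nat.eq_one_of_dvd_coprimes (by norm_num : Nat.Coprime 9 2) hd hd2)]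
      exact one_mem _)
  obtain ⟨d, hd, p, hp, rfl⟩ := hconj b hb
  refine ⟨d, hd, ?_⟩
  rcases hR2 p hp with e | e
  · exact Or.inl (by rw [e])
  · exact Or.inr (by rw [e])

theorem nbr_commute (hz : IsConj v z) (h : Nbr v z a) (hb : Nbr v z b) (hc : Commute b a) :
    b = a ∨ b = a⁻¹ := by
  obtain ⟨d, hd, hcase⟩ := F.nbr_cases hz h hb
  have hbP : b ∈ F.P z a := F.mem_P.2 ⟨hb.2.1, hc⟩
  have key : ∀ c : G, Nbr v z c → c ∈ F.P z a → d * c * d = b → b = c := by
    intro c hcn hcP e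
    have hmem : d * (c * d * c⁻¹) ∈ F.P z a := by
      rw [show d * (c * d * c⁻¹) = d * c * d * c⁻¹ by group, e]
      exact mul_mem hbP (inv_mem hcP)
    have h1 := F.V_inf_P hz h (mul_mem hd (F.V_conj hz hcn.2.1 hd)) hmem
    have h2 : Commute c d := mul_inv_eq_iff_eq_mul.1 (by
      calc c * d * c⁻¹ = d⁻¹ * (d * (c * d * c⁻¹)) := by group
        _ = d := by rw [h1, mul_one, F.V_inv hz hd])
    by_cases hd1 : d = 1
    · rw [← e, hd1, one_mul, mul_one]
    · obtain ⟨hdo, hdz⟩ := ((F.mem_V hz).1 hd).resolve_left hd1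
      exact absurd h2 (F.no_inv hz hcn hdo hdz)
  have haP : a ∈ F.P z a := F.mem_P.2 ⟨h.2.1, Commute.refl a⟩
  rcases hcase with e | e
  · exact Or.inl (key a h haP e.symm)
  · exact Or.inr (key _ (F.nbr_inv h) (inv_mem haP) e.symm)

/-- A neighbour moves any involution of the four-group to the other two. -/
theorem V_cases (hz : IsConj v z) (h : Nbr v z a) {i j : G} (hi : orderOf i = 2) (hiz : Commute i z)
    (hj : orderOf j = 2) (hjz : Commute j z) :
    j = i ∨ j = a * i * a⁻¹ ∨ j = a⁻¹ * i * a := by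
  have hz' : a * z * a⁻¹ = z := by rw [h.2.1.eq, mul_inv_cancel_right]
  set S : Set G := {x | orderOf x = 2 ∧ Commute x z}
  have hS : S.ncard = 3 := by rw [← Nat.card_coe_set_eq]; exact F.three z hz
  set T : Set G := {i, a * i * a⁻¹, a⁻¹ * i * a}
  have hT : T ⊆ S := by
    rintro x (rfl | rfl | rfl)
    · exact ⟨hi, hiz⟩
    · exact ⟨by rw [orderOf_conj_eq, hi], by have := commute_conj hiz a; rwa [hz'] at this⟩
    · have hz'' : a⁻¹ * z * a = z := by rw [mul_assoc, ← h.2.1.eq, inv_mul_cancel_left]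
      refine ⟨?_, ?_⟩
      · have := orderOf_conj_eq a⁻¹ i
        rw [inv_inv] at this
        rw [this, hi]
      · have := commute_conj hiz a⁻¹
        rw [inv_inv, hz''] at this
        exact this
  have hne : ∀ c, Nbr v z c → c * i * c⁻¹ ≠ i := fun c hc e =>
    F.no_inv hz hc hi hiz (mul_inv_eq_iff_eq_mul.1 e)
  have hT3 : T.ncard = 3 := by
    rw [Set.ncard_insert_of_notMem, Set.ncard_pair]
    · intro e
      refine hne a⁻¹ (F.nbr_inv h) ?_
      rw [inv_inv]
      have h3 : a * a = a⁻¹ := eq_inv_of_mul_eq_one_left (by rw [← pow_two, ← pow_succ, F.cube h.1])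
      have e2 : a * (a * i * a⁻¹) * a⁻¹ = i := by rw [e]; group
      calc a⁻¹ * i * a = (a * a) * i * (a * a)⁻¹ := by rw [h3, inv_inv]
        _ = a * (a * i * a⁻¹) * a⁻¹ := by group
        _ = i := e2
    · simp only [Set.mem_insert_iff, Set.mem_singleton_iff, not_or]
      refine ⟨(hne a h).symm, fun e => hne a⁻¹ (F.nbr_inv h) ?_⟩
      rw [inv_inv]; exact e.symm
  have := Set.eq_of_subset_of_ncard_le hT (by rw [hS, hT3]) (Set.toFinite _)
  have hmem : j ∈ T := this ▸ (⟨hj, hjz⟩ : j ∈ S)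
  exact hmem

/-- An involution inverting or fixing `z` outside `C(z)` sends a neighbour to one in the other class. -/
theorem twist (hz : IsConj v z) (h : Nbr v z a) {f : G} (hf : orderOf f = 2)
    (hfz : f * z * f = z⁻¹) : (a * (f * a * f)) ^ 2 = 1 := by
  have hff : f * f = 1 := by rw [← pow_two, ← hf, pow_orderOf_eq_one]
  have hfi : f⁻¹ = f := inv_eq_of_mul_eq_one_right hff
  have hnot : ¬ Commute f z := fun hc => F.inv_ne hz (by rw [← hfz, hc.eq, mul_assoc, hff, mul_one])
  have hconj : ∀ x, Commute x z → Commute (f * x * f) z := by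
    intro x hx
    have := commute_conj hx f
    rw [hfi, hfz] at this
    simpa using this.inv_right
  -- an involution of the four-group fixed by `f`
  obtain ⟨i, hio, hiz, hfix⟩ : ∃ i, orderOf i = 2 ∧ Commute i z ∧ f * i * f = i := by
    obtain ⟨e, heo, hez⟩ := F.exists_inv hz
    by_cases he : f * e * f = e
    · exact ⟨e, heo, hez, he⟩
    · have hfe : orderOf (f * e * f) = 2 := by
        have := orderOf_conj_eq f e
        rwa [hfi, heo] at this
      obtain ⟨hlo, hlz⟩ := F.inv_mul_mem hz heo hez hfe (hconj e hez) (Ne.symm he)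
      refine ⟨_, hlo, hlz, ?_⟩
      calc f * (e * (f * e * f)) * f = (f * e * f) * e * (f * f) := by group
        _ = _ := by rw [hff, mul_one, (F.comm z e (f * e * f) hz heo hez hfe (hconj e hez)).eq]
  have hfa : Nbr v z (f * a * f) := by
    refine ⟨?_, hconj a h.2.1, fun e => ?_, fun e => ?_⟩
    · have := F.conj_conj h.1 f; rwa [hfi] at this
    · refine h.2.2.2 ?_
      rw [← hfz, ← e]
      simp only [← mul_assoc, hff, one_mul]
      rw [mul_assoc, hff, mul_one]
    · refine h.2.2.1 ?_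
      have : f * (f * a * f) * f = f * z⁻¹ * f := by rw [e]
      simp only [← mul_assoc, hff, one_mul] at this
      rw [mul_assoc, hff, mul_one] at this
      rw [this, ← hfz]
      simp only [← mul_assoc, hff, one_mul]
      rw [mul_assoc, hff, mul_one]
  obtain ⟨d, hd, e | e⟩ := F.nbr_cases hz h hfa
  · exfalso
    set j := a * i * a⁻¹ with hj
    have hdi := F.V_inv hz hd
    have hiV : i ∈ F.V hz := Or.inr ⟨hio, hiz⟩
    have hjV : j ∈ F.V hz := F.V_conj hz h.2.1 hiV
    -- `f` fixes two of the three involutions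
    have hfj : f * j * f = j := by
      calc f * j * f = (f * a * f) * (f * i * f) * (f * a⁻¹ * f) := by
            rw [hj]; simp only [mul_assoc, mul_left_inj, mul_right_inj]
            simp [← mul_assoc f f, hff]
        _ = (d * a * d) * i * (d * a * d)⁻¹ := by
            rw [e, hfix, show f * a⁻¹ * f = (f * a * f)⁻¹ by rw [mul_inv_rev, mul_inv_rev, hfi, ← mul_assoc], e]
        _ = d * (a * (d * i * d⁻¹) * a⁻¹) * d⁻¹ := by group
        _ = d * (a * i * a⁻¹) * d⁻¹ := by rw [(F.V_commute hz hd hiV).eq, mul_inv_cancel_right]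
        _ = _ := by rw [← hj, (F.V_commute hz hd hjV).eq, mul_inv_cancel_right]
    obtain ⟨hjo, hjz⟩ := ((F.mem_V hz).1 hjV).resolve_left fun e1 => by
      rw [hj] at e1
      rw [conj_eq_one_iff.1 e1, orderOf_one] at hio
      norm_num at hio
    have hij : i ≠ j := fun e1 => F.no_inv hz h hio hiz (mul_inv_eq_iff_eq_mul.1 e1.symm)
    have c1 : Commute f i := by
      show f * i = i * f
      nth_rewrite 2 [← hfix]
      rw [mul_assoc (f * i), hff, mul_one]
    have c2 : Commute f j := by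
      show f * j = j * f
      nth_rewrite 2 [← hfj]
      rw [mul_assoc (f * j), hff, mul_one]
    exact hnot (F.pair z i j f hz hio hiz hjo hjz hij c1 c2)
  · have hw : a * (f * a * f) ∈ F.V hz := by
      rw [e, show a * (d * a⁻¹ * d) = (a * d * a⁻¹) * d by group]
      exact mul_mem (F.V_conj hz h.2.1 hd) hd
    rw [pow_two]
    exact F.V_sq hz hw

/-- An element of order three outside the class commuting with `z` has its centraliser in `C(z)`. -/
theorem commute_of_other (hz : IsConj v z) {g : G} (hg : orderOf g = 3) (hgz : Commute g z)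
    (hgT : ¬ IsConj v g) {x : G} (hx : Commute x g) : Commute x z := by
  haveI : Fact (Nat.Prime 2) := ⟨Nat.prime_two⟩
  haveI : Fact (Nat.Prime 3) := ⟨by norm_num⟩
  set C := centralizer ({g} : Set G)
  have hd := F.dvd_72 g hg
  have hodd : ¬ 2 ∣ Nat.card C := by
    intro h2
    obtain ⟨t, ht⟩ := exists_prime_orderOf_dvd_card' (G := C) 2 h2
    exact hgT (F.inv_T t g (by rw [Subgroup.orderOf_coe, ht]) hg
      (mem_centralizer_singleton_iff.1 t.2).symm)
  have h9 : Nat.card C ∣ 3 ^ 2 := by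
    have hco : Nat.Coprime (Nat.card C) (2 ^ 3) :=
      (((Nat.prime_two.coprime_iff_not_dvd).2 hodd).symm).pow_right 3
    exact hco.dvd_of_dvd_mul_left (show Nat.card C ∣ 2 ^ 3 * 3 ^ 2 from hd)
  obtain ⟨j, hj, hj'⟩ := (Nat.dvd_prime_pow Nat.prime_three).1 h9
  have hcomm : ∀ p q : C, p * q = q * p := by
    interval_cases j
    · haveI := (Nat.card_eq_one_iff_unique.1 (by simpa using hj' : Nat.card C = 1)).1
      exact fun p q => Subsingleton.elim _ _
    · haveI := isCyclic_of_prime_card (by simpa using hj' : Nat.card C = 3)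
      exact fun p q => @mul_comm _ IsCyclic.commGroup.toCommMagma p q
    · exact (IsPGroup.isMulCommutative_of_card_eq_prime_sq hj').is_comm.comm
  exact congrArg Subtype.val (hcomm ⟨x, mem_centralizer_singleton_iff.2 hx.eq⟩
    ⟨z, mem_centralizer_singleton_iff.2 hgz.eq.symm⟩)

end Facts

end Cfsg.Agent.Lib.SmallCentralizer.Order2520
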