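/-
Simple groups of order 2520: five elements satisfying Carmichael's relations, hence `A₇`.
-/
import Cfsg.Agent.Lib.SmallCentralizer.Order2520.Neighbours
import Cfsg.Agent.Lib.ShortPresSLn.Carmichael

set_option autoImplicit false

namespace Cfsg.Agent.Lib.SmallCentralizer.Order2520

open Subgroup Cfsg.Agent.Lib.ShortPresSLn

universe u

variable {G : Type u} [Group G] [Finite G]

omit [Finite G] in
theorem inv_eq_self_of_orderOf_two {e : G} (he : orderOf e = 2) : e⁻¹ = e :=
  inv_eq_of_mul_eq_one_right (by rw [← pow_two, ← he, pow_orderOf_eq_one])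

namespace Facts

variable {v : G} (F : Facts v)
include F

/-- The set reached from `v` in two steps. -/
theorem not_closed {w : G} (hw : Nbr v v w) {e : G} (heo : orderOf e = 2) (hew : Commute e w)
    {d : G} (hdo : orderOf d = 2) (hdu : Commute d (e * v⁻¹ * e)) (hu : Nbr v w (e * v⁻¹ * e))
    (huv : ¬ Commute (e * v⁻¹ * e) v)
    (hD : ∀ k, Commute k v → Commute k (e * v⁻¹ * e) → k = 1 ∨ k = w ∨ k = w⁻¹)
    {g : G} (hg : Nbr v v g) (hgr : Commute g (d * w * d)) : False := by
  classical
  have hv : IsConj v v := IsConj.refl v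
  set u := e * v⁻¹ * e with hudef
  set r := d * w * d with hrdef
  have hei := inv_eq_self_of_orderOf_two heo
  have hdi := inv_eq_self_of_orderOf_two hdo
  have hwu : Nbr v u w := F.nbr_symm hw.1 hu
  have hvw : Nbr v w v := F.nbr_symm hv hw
  have hr : Nbr v u r := by
    have := F.nbr_conj hwu hdu
    rwa [hdi] at this
  let S : G → Prop := fun x => IsConj v x ∧ ∃ b, Nbr v v b ∧ Commute x b
  have Sinv : ∀ x, S x → S x⁻¹ := fun x ⟨hx, b, hb, hc⟩ => ⟨F.conj_inv hx, b, hb, hc.inv_left⟩
  have Sconj : ∀ x k, Commute k v → S x → S (k * x * k⁻¹) := fun x k hk ⟨hx, b, hb, hc⟩ =>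
    ⟨F.conj_conj hx k, k * b * k⁻¹, F.nbr_conj hb hk, commute_conj hc k⟩
  have hSr : S r := ⟨hr.1, g, hg, hgr.symm⟩
  have hSu : ∀ y, IsConj v y → Commute y u → S y := by
    intro y hy hyu
    by_cases h1 : y = u
    · exact ⟨hy, w, hw, h1 ▸ hwu.2.1.symm⟩
    by_cases h2 : y = u⁻¹
    · exact ⟨hy, w, hw, h2 ▸ hwu.2.1.symm.inv_left⟩
    obtain ⟨q, hq, hcase⟩ := F.nbr_cases hu.1 hwu ⟨hy, hyu, h1, h2⟩
    have hcases : y = q * w * q ∨ y = (q * w * q)⁻¹ := by
      rcases hcase with e1 | e1
      · exact Or.inl e1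
      · exact Or.inr (by rw [e1]; simp [mul_assoc, F.V_inv hu.1 hq])
    have hSq : S (q * w * q) := by
      by_cases hq1 : q = 1
      · rw [hq1, one_mul, mul_one]; exact ⟨hw.1, w, hw, Commute.refl w⟩
      obtain ⟨hqo, hqu⟩ := ((F.mem_V hu.1).1 hq).resolve_left hq1
      rcases F.V_cases hu.1 hwu hdo hdu hqo hqu with rfl | rfl | rfl
      · exact hSr
      · have := Sconj r w hw.2.1 hSr
        rwa [show w * r * w⁻¹ = w * d * w⁻¹ * w * (w * d * w⁻¹) by rw [hrdef]; group] at this
      · have := Sconj r w⁻¹ hw.2.1.inv_left hSr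
        rw [inv_inv] at this
        rwa [show w⁻¹ * r * w = w⁻¹ * d * w * w * (w⁻¹ * d * w) by rw [hrdef]; group] at this
    rcases hcases with e1 | e1
    · rw [e1]; exact hSq
    · rw [e1]; exact Sinv _ hSq
  have closed : ∀ z, S z → ∀ y, IsConj v y → Commute y z → S y := by
    rintro z ⟨hz, b, hb, hzb⟩ y hy hyz
    have hyv : Commute y v → S y := fun hc => by
      by_cases h1 : y = v
      · exact ⟨hy, w, hw, h1 ▸ hw.2.1.symm⟩
      by_cases h2 : y = v⁻¹
      · exact ⟨hy, w, hw, h2 ▸ hw.2.1.symm.inv_left⟩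
      exact ⟨hy, y, ⟨hy, hc, h1, h2⟩, Commute.refl y⟩
    by_cases hzv : Commute z v
    · by_cases h1 : z = v
      · exact hyv (h1 ▸ hyz)
      by_cases h2 : z = v⁻¹
      · exact hyv (by have := (h2 ▸ hyz : Commute y v⁻¹).inv_right; rwa [inv_inv] at this)
      exact ⟨hy, z, ⟨hz, hzv, h1, h2⟩, hyz⟩
    obtain ⟨q, hq, hcase⟩ := F.nbr_cases hv hw hb
    have hqi := F.V_inv hv hq
    have hqv : Commute q v := mem_centralizer_singleton_iff.1 (F.V_le hv hq)
    have hqq := F.V_sq hv hq
    -- move `b` to `w`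
    suffices hmain : ∀ z' y', IsConj v z' → ¬ Commute z' v → Commute z' w → IsConj v y' →
        Commute y' z' → S y' by
      have hzw : Commute (q * z * q⁻¹) w := by
        rcases hcase with e1 | e1
        · have := commute_conj hzb q
          rw [e1, hqi, show q * (q * w * q) * q = (q * q) * w * (q * q) by group, hqq, one_mul, mul_one]
            at this
          rw [hqi]; exact this
        · have := (commute_conj hzb q).inv_right
          rw [e1, hqi, show q * (q * w⁻¹ * q) * q = (q * q) * w⁻¹ * (q * q) by group, hqq, one_mul, mul_one,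
            inv_inv] at this
          rw [hqi]; exact this
      have hnv : ¬ Commute (q * z * q⁻¹) v := fun hc => hzv (by
        have := commute_conj hc q⁻¹
        rwa [show q⁻¹ * (q * z * q⁻¹) * q⁻¹⁻¹ = z by group,
          show q⁻¹ * v * q⁻¹⁻¹ = v by rw [inv_inv, mul_assoc, ← hqv.eq, inv_mul_cancel_left]] at this)
      have hS := hmain _ (q * y * q⁻¹) (F.conj_conj hz q) hnv hzw (F.conj_conj hy q) (commute_conj hyz q)
      have := Sconj _ q⁻¹ hqv.inv_left hS
      rwa [show q⁻¹ * (q * y * q⁻¹) * q⁻¹⁻¹ = y by group] at this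
    intro z' y' hz' hz'v hz'w hy' hyz'
    have hz'n : Nbr v w z' := by
      refine ⟨hz', hz'w, fun e1 => hz'v (e1 ▸ hw.2.1), fun e1 => hz'v (e1 ▸ hw.2.1.inv_left)⟩
    obtain ⟨p, hp, hpc⟩ := F.nbr_cases hw.1 (F.nbr_inv hvw) hz'n
    have hp1 : p ≠ 1 := by
      rintro rfl
      apply hz'v
      rcases hpc with e1 | e1 <;> rw [e1, one_mul, mul_one]
      · exact (Commute.refl v).inv_left
      · rw [inv_inv]
    obtain ⟨hpo, hpw⟩ := ((F.mem_V hw.1).1 hp).resolve_left hp1
    obtain ⟨m, hmv, rfl⟩ : ∃ m, Commute m v ∧ p = m * e * m⁻¹ := by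
      rcases F.V_cases hw.1 hvw heo hew hpo hpw with e1 | e1 | e1
      · exact ⟨1, Commute.one_left v, by rw [e1]; group⟩
      · exact ⟨v, Commute.refl v, e1⟩
      · exact ⟨v⁻¹, (Commute.refl v).inv_left, by rw [e1, inv_inv]⟩
    have hm1 : m⁻¹ * v * m = v := by rw [mul_assoc, ← hmv.eq, inv_mul_cancel_left]
    have hz'u : m⁻¹ * z' * m = u ∨ m⁻¹ * z' * m = u⁻¹ := by
      rcases hpc with e1 | e1
      · left
        calc m⁻¹ * z' * m = e * (m⁻¹ * v * m)⁻¹ * e := by rw [e1]; group
          _ = u := by rw [hm1, hudef]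
      · right
        calc m⁻¹ * z' * m = e * (m⁻¹ * v * m) * e := by rw [e1]; group
          _ = _ := by rw [hm1, hudef, mul_inv_rev, mul_inv_rev, hei, inv_inv, mul_assoc]
    have hyu : Commute (m⁻¹ * y' * m) u := by
      have hc := commute_conj hyz' m⁻¹
      rw [inv_inv] at hc
      rcases hz'u with e1 | e1 <;> rw [e1] at hc
      · exact hc
      · have := hc.inv_right; rwa [inv_inv] at this
    have hy'' : IsConj v (m⁻¹ * y' * m) := by
      have := F.conj_conj hy' m⁻¹
      rwa [inv_inv] at this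
    have := Sconj _ m hmv (hSu _ hy'' hyu)
    rwa [show m * (m⁻¹ * y' * m) * m⁻¹ = y' by group] at this
  -- the conjugates reached by `K` and `C(w)`
  set H : Subgroup G := Subgroup.closure {c | Commute c v ∨ Commute c w}
  have hHS : ∀ x ∈ H, S (x * v * x⁻¹) := by
    intro x hx
    induction hx using Subgroup.closure_induction_right with
    | one => rw [one_mul, inv_one, mul_one]; exact ⟨hv, w, hw, hw.2.1.symm⟩
    | mul_right x _ c hc ih =>
      rcases hc with hc | hc
      · rwa [show x * c * v * (x * c)⁻¹ = x * (c * v * c⁻¹) * x⁻¹ by group,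
          show c * v * c⁻¹ = v by rw [hc.eq, mul_inv_cancel_right]]
      · have hxw := closed _ ih (x * w * x⁻¹) (F.conj_conj hw.1 x) (commute_conj hw.2.1 x)
        refine closed _ hxw _ (F.conj_conj hv (x * c)) ?_
        have := commute_conj hw.2.1.symm (x * c)
        rwa [show x * c * w * (x * c)⁻¹ = x * (c * w * c⁻¹) * x⁻¹ by group,
          show c * w * c⁻¹ = w by rw [hc.eq, mul_inv_cancel_right]] at this
    | mul_inv_cancel x _ c hc ih =>
      rcases hc with hc | hc
      · rwa [show x * c⁻¹ * v * (x * c⁻¹)⁻¹ = x * (c⁻¹ * v * c) * x⁻¹ by group,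
          show c⁻¹ * v * c = v by rw [mul_assoc, ← hc.eq, inv_mul_cancel_left]]
      · have hxw := closed _ ih (x * w * x⁻¹) (F.conj_conj hw.1 x) (commute_conj hw.2.1 x)
        refine closed _ hxw _ (F.conj_conj hv (x * c⁻¹)) ?_
        have := commute_conj hw.2.1.symm (x * c⁻¹)
        rwa [show x * c⁻¹ * w * (x * c⁻¹)⁻¹ = x * (c⁻¹ * w * c) * x⁻¹ by group,
          show c⁻¹ * w * c = w by rw [mul_assoc, ← hc.eq, inv_mul_cancel_left]] at this
  -- `H` is everything
  have hKH : centralizer ({v} : Set G) ≤ H := fun c hc =>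
    subset_closure (Or.inl (mem_centralizer_singleton_iff.1 hc))
  have heH : e ∈ H := subset_closure (Or.inr hew)
  have hHtop : H = ⊤ := by
    by_contra hne
    have hle := F.le_card H hne
    set K := centralizer ({v} : Set G)
    have hwK : w ∈ K := mem_centralizer_singleton_iff.2 hw.2.1.eq
    set D : Subgroup K := (zpowers w).subgroupOf K
    have hD12 : Nat.card (K ⧸ D) = 12 := by
      rw [← Subgroup.index_eq_card]
      have hm := D.card_mul_index
      rw [Nat.card_congr (Subgroup.subgroupOfEquivOfLe (zpowers_le.2 hwK)).toEquiv, Nat.card_zpowers,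
        F.order_of_conj hw.1, F.cardC] at hm
      omega
    let f : Option (K ⧸ D) × K → H := fun x => match x.1 with
      | none => ⟨x.2, hKH x.2.2⟩
      | some q => ⟨(q.out : G) * e * x.2, mul_mem (mul_mem (hKH q.out.2) heH) (hKH x.2.2)⟩
    have hnK : ∀ (p : K) (k : K), (p : G) * e * k ∉ K := by
      intro p k hk
      have heK : e ∈ K := by
        have := mul_mem (mul_mem (inv_mem p.2) hk) (inv_mem k.2)
        simpa [mul_assoc] using this
      apply huv
      have hev : Commute e v := mem_centralizer_singleton_iff.1 heK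
      rw [hudef]
      exact (hev.mul_left (Commute.refl v).inv_left).mul_left hev
    have hf : Function.Injective f := by
      rintro ⟨o, k⟩ ⟨o', k'⟩ heq
      have heq' := congrArg Subtype.val heq
      rcases o with _ | q <;> rcases o' with _ | q'
      · exact Prod.ext rfl (Subtype.ext heq')
      · have e1 : (k : G) = (q'.out : G) * e * k' := heq'
        exact absurd (e1 ▸ k.2) (hnK _ _)
      · have e1 : (q.out : G) * e * k = (k' : G) := heq'
        exact absurd (e1.symm ▸ k'.2) (hnK _ _)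
      · have e1 : (q.out : G) * e * k = (q'.out : G) * e * k' := heq'
        set a : K := q.out⁻¹ * q'.out with ha
        have e2 : (a : G) = e * ((k : G) * (k' : G)⁻¹) * e := by
          calc (a : G) = (q.out : G)⁻¹ * ((q'.out : G) * e * k') * ((k' : G)⁻¹ * e⁻¹) := by
                rw [ha, Subgroup.coe_mul, Subgroup.coe_inv]; group
            _ = (q.out : G)⁻¹ * ((q.out : G) * e * k) * ((k' : G)⁻¹ * e⁻¹) := by rw [e1]
            _ = _ := by rw [hei]; group
        have hkv : Commute ((k : G) * (k' : G)⁻¹) v⁻¹ :=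
          (show Commute ((k : G) * (k' : G)⁻¹) v from
            mem_centralizer_singleton_iff.1 (mul_mem k.2 (inv_mem k'.2))).inv_right
        have hau : Commute (a : G) u := by
          rw [e2, hudef]
          have := commute_conj hkv e
          rwa [hei] at this
        have haw : a ∈ D := by
          rw [Subgroup.mem_subgroupOf]
          rcases hD a (mem_centralizer_singleton_iff.1 a.2) hau with h1 | h1 | h1 <;> rw [h1]
          exacts [one_mem _, mem_zpowers w, inv_mem (mem_zpowers w)]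
        have hqq' : q = q' := by
          rw [← QuotientGroup.out_eq' q, ← QuotientGroup.out_eq' q', QuotientGroup.eq]
          exact haw
        subst hqq'
        exact Prod.ext rfl (Subtype.ext (mul_left_cancel e1))
    have hcard := Nat.card_le_card_of_injective f hf
    rw [Nat.card_prod, Finite.card_option, hD12, F.cardC] at hcard
    omega
  have hall : ∀ x, IsConj v x → S x := by
    intro x hx
    obtain ⟨c, rfl⟩ := isConj_iff.1 hx
    exact hHS c (hHtop ▸ mem_top c)
  -- but `S` is small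
  have hbound : Nat.card {x : G // IsConj v x} ≤ 4 * (8 + 2) := by
    set W : Set G := {x | IsConj v x ∧ Commute x w}
    have hW : W.ncard ≤ 8 + 2 := by
      let f : F.V hw.1 × Bool → G := fun x => if x.2 then x.1 * v * x.1 else x.1 * v⁻¹ * x.1
      have hsub : W ⊆ Set.range f ∪ {w, w⁻¹} := by
        intro x hx
        by_cases h1 : x = w
        · exact Or.inr (Or.inl h1)
        by_cases h2 : x = w⁻¹
        · exact Or.inr (Or.inr h2)
        obtain ⟨p, hp, e1 | e1⟩ := F.nbr_cases hw.1 hvw ⟨hx.1, hx.2, h1, h2⟩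
        · exact Or.inl ⟨(⟨p, hp⟩, true), by simp [f, e1]⟩
        · exact Or.inl ⟨(⟨p, hp⟩, false), by simp [f, e1]⟩
      refine (Set.ncard_le_ncard hsub (Set.toFinite _)).trans ((Set.ncard_union_le _ _).trans ?_)
      refine Nat.add_le_add ?_ ((Set.ncard_insert_le _ _).trans (by simp))
      rw [← Nat.card_coe_set_eq]
      refine (Finite.card_range_le f).trans ?_
      rw [Nat.card_prod, F.card_V, Nat.card_eq_fintype_card, Fintype.card_bool]
    let φ : {x : G // IsConj v x} → F.V hv × W := fun x =>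
      let hb := (hall x.1 x.2).2.choose_spec
      let q := (F.nbr_cases hv hw hb.1).choose
      (⟨q, (F.nbr_cases hv hw hb.1).choose_spec.1⟩, ⟨q * x.1 * q⁻¹, by
        refine ⟨F.conj_conj x.2 q, ?_⟩
        have hqi := F.V_inv hv (F.nbr_cases hv hw hb.1).choose_spec.1
        have hqq := F.V_sq hv (F.nbr_cases hv hw hb.1).choose_spec.1
        have hc := commute_conj hb.2 q
        rcases (F.nbr_cases hv hw hb.1).choose_spec.2 with e1 | e1 <;> rw [e1, hqi] at hc
        · rw [show q * (q * w * q) * q = (q * q) * w * (q * q) by group, hqq, one_mul, mul_one] at hc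
          rw [hqi]; exact hc
        · rw [show q * (q * w⁻¹ * q) * q = (q * q) * w⁻¹ * (q * q) by group, hqq, one_mul, mul_one] at hc
          have := hc.inv_right
          rw [inv_inv] at this
          rw [hqi]; exact this⟩)
    have hφ : Function.Injective φ := by
      intro x y hxy
      have h1 := congrArg (fun p : F.V hv × W => (p.1 : G)) hxy
      have h2 := congrArg (fun p : F.V hv × W => (p.2 : G)) hxy
      simp only [φ] at h1 h2
      rw [h1] at h2
      exact Subtype.ext (mul_left_cancel (mul_right_cancel h2))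
    refine (Nat.card_le_card_of_injective φ hφ).trans ?_
    rw [Nat.card_prod, F.card_V, Nat.card_coe_set_eq]
    exact Nat.mul_le_mul_left 4 hW
  rw [F.card_class] at hbound
  omega

/-- Five elements satisfying Carmichael's relations. -/
theorem exists_carm : ∃ x : ℕ → G, CarmRel 5 x ∧ x 0 ≠ 1 := by
  classical
  have hv : IsConj v v := IsConj.refl v
  obtain ⟨w, hw⟩ := F.exists_nbr hv
  have hvw : Nbr v w v := F.nbr_symm hv hw
  obtain ⟨e, heo, hew⟩ := F.exists_inv hw.1
  have hei := inv_eq_self_of_orderOf_two heo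
  set u := e * v⁻¹ * e with hudef
  have hu : Nbr v w u := by
    have := F.nbr_conj (F.nbr_inv hvw) hew
    rwa [hei] at this
  have hwu : Nbr v u w := F.nbr_symm hw.1 hu
  -- the product `u v` is an involution
  have huv2 : (u * v) ^ 2 = 1 := by
    have hmem : e * (v⁻¹ * e * v) ∈ F.V hw.1 := by
      refine mul_mem (Or.inr ⟨heo, hew⟩) ?_
      have := F.V_conj hw.1 (k := v⁻¹) hw.2.1.symm.inv_left (Or.inr ⟨heo, hew⟩ : e ∈ F.V hw.1)
      rwa [inv_inv] at this
    have e1 : u * v = e * (v⁻¹ * e * v) := by rw [hudef]; group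
    rw [pow_two, e1]
    exact F.V_sq hw.1 hmem
  have huv : ¬ Commute u v := by
    intro hc
    rcases F.nbr_commute hw.1 hvw hu hc with e1 | e1
    · refine F.not_inverted hw.1 (F.nbr_inv hvw) hew ?_
      rw [hei, inv_inv]; exact e1
    · refine F.no_inv hw.1 (F.nbr_inv hvw) heo hew ?_
      show v⁻¹ * e = e * v⁻¹
      calc v⁻¹ * e = e * u := by
            rw [hudef, ← mul_assoc, ← mul_assoc, ← pow_two, ← heo, pow_orderOf_eq_one, one_mul]
        _ = _ := by rw [e1]
  have hD : ∀ k, Commute k v → Commute k u → k = 1 ∨ k = w ∨ k = w⁻¹ := by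
    intro k hkv hku
    set D := centralizer ({v} : Set G) ⊓ centralizer ({u} : Set G)
    have hwD : w ∈ D := ⟨mem_centralizer_singleton_iff.2 hw.2.1.eq, mem_centralizer_singleton_iff.2 hwu.2.1.eq⟩
    have hd := Subgroup.card_dvd_of_le (inf_le_left : D ≤ centralizer ({v} : Set G))
    rw [F.cardC] at hd
    haveI : Fact (Nat.Prime 2) := ⟨Nat.prime_two⟩
    haveI : Fact (Nat.Prime 3) := ⟨by norm_num⟩
    have hodd : ¬ 2 ∣ Nat.card D := by
      intro h2
      obtain ⟨t, ht⟩ := exists_prime_orderOf_dvd_card' (G := D) 2 h2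
      rcases F.inv_unique (t : G) v u (by rw [Subgroup.orderOf_coe, ht]) F.order (F.order_of_conj hu.1)
        (mem_centralizer_singleton_iff.1 t.2.1).symm (mem_centralizer_singleton_iff.1 t.2.2).symm with e1 | e1
      · exact huv (e1 ▸ Commute.refl v)
      · exact huv (e1 ▸ (Commute.refl v).inv_left)
    have h9 : Nat.card D ∣ 3 ^ 2 := by
      have hco : Nat.Coprime (Nat.card D) (2 ^ 2) :=
        (((Nat.prime_two.coprime_iff_not_dvd).2 hodd).symm).pow_right 2
      exact hco.dvd_of_dvd_mul_left (show Nat.card D ∣ 2 ^ 2 * 3 ^ 2 from hd)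
    obtain ⟨j, hj, hj'⟩ := (Nat.dvd_prime_pow Nat.prime_three).1 h9
    have hj2 : j ≠ 2 := by
      rintro rfl
      have hcomm := (IsPGroup.isMulCommutative_of_card_eq_prime_sq hj').is_comm.comm
      have hle : D ≤ F.P v w := fun x hx => F.mem_P.2 ⟨mem_centralizer_singleton_iff.1 hx.1,
        congrArg Subtype.val (hcomm ⟨x, hx⟩ ⟨w, hwD⟩)⟩
      have heq := Subgroup.eq_of_le_of_card_ge hle (by rw [hj', F.card_P hv hw]; norm_num)
      have hvD : v ∈ D := heq.symm ▸ F.mem_P.2 ⟨Commute.refl v, hw.2.1.symm⟩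
      exact huv (show Commute u v from (mem_centralizer_singleton_iff.1 hvD.2).symm)
    have hle3 : Nat.card D ≤ 3 := by
      rw [hj']
      interval_cases j
      · norm_num
      · norm_num
      · exact absurd rfl hj2
    have hDw : zpowers w = D := Subgroup.eq_of_le_of_card_ge (zpowers_le.2 hwD)
      (by rw [Nat.card_zpowers, F.order_of_conj hw.1]; exact hle3)
    exact eq_or_inv_of_mem_zpowers (F.cube hw.1)
      (hDw ▸ ⟨mem_centralizer_singleton_iff.2 hkv.eq, mem_centralizer_singleton_iff.2 hku.eq⟩)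
  obtain ⟨d, hdo, hdu⟩ := F.exists_inv hu.1
  have hdi := inv_eq_self_of_orderOf_two hdo
  set r := d * w * d with hrdef
  have hr : Nbr v u r := by
    have := F.nbr_conj hwu hdu
    rwa [hdi] at this
  have hrw : r ≠ w := fun e1 => F.no_inv hu.1 hwu hdo hdu (by
    refine (mul_inv_eq_iff_eq_mul.1 ?_ : d * w = w * d).symm
    rw [hdi]; exact e1)
  have hrw' : r ≠ w⁻¹ := fun e1 => F.not_inverted hu.1 hwu hdu (by rw [hdi]; exact e1)
  have hrv : ¬ Commute r v := by
    intro hc
    rcases hD r hc hr.2.1 with e1 | e1 | e1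
    · exact F.ne_one hr.1 e1
    · exact hrw e1
    · exact hrw' e1
  -- an element of `C(v)` normalising `⟨r⟩`
  obtain ⟨c, hcv, hc1, hcr⟩ : ∃ c, Commute c v ∧ c ≠ 1 ∧ (c * r * c⁻¹ = r ∨ c * r * c⁻¹ = r⁻¹) := by
    let rb : Bool → G := fun b => if b then r else r⁻¹
    have hrb : ∀ b, IsConj v (rb b) := fun b => by
      cases b
      · exact F.conj_inv hr.1
      · exact hr.1
    let Φ : (centralizer ({v} : Set G)) × Bool → {x : G // IsConj v x} :=
      fun x => ⟨x.1 * rb x.2 * (x.1 : G)⁻¹, F.conj_conj (hrb x.2) _⟩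
    have hni : ¬ Function.Injective Φ := fun hi => by
      have := Nat.card_le_card_of_injective Φ hi
      rw [Nat.card_prod, F.cardC, F.card_class, Nat.card_eq_fintype_card, Fintype.card_bool] at this
      omega
    simp only [Function.Injective, not_forall] at hni
    obtain ⟨⟨k, b⟩, ⟨k', b'⟩, heq, hne⟩ := hni
    have e1 : (k : G) * rb b * (k : G)⁻¹ = (k' : G) * rb b' * (k' : G)⁻¹ := congrArg Subtype.val heq
    refine ⟨(k' : G)⁻¹ * k, mem_centralizer_singleton_iff.1 (mul_mem (inv_mem k'.2) k.2), fun e2 => hne ?_, ?_⟩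
    · have hkk : k = k' := Subtype.ext (inv_mul_eq_one.1 e2).symm
      subst hkk
      have e3 := mul_left_cancel (mul_right_cancel e1)
      have hbb : b = b' := by
        cases b <;> cases b' <;> simp only [rb, Bool.false_eq_true, if_false, if_true] at e3
        · rfl
        · exact absurd e3 (F.inv_ne hr.1)
        · exact absurd e3.symm (F.inv_ne hr.1)
        · rfl
      rw [hbb]
    · have e4 : (k' : G)⁻¹ * k * rb b * ((k' : G)⁻¹ * k)⁻¹ = rb b' := by
        calc (k' : G)⁻¹ * k * rb b * ((k' : G)⁻¹ * k)⁻¹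
            = (k' : G)⁻¹ * ((k : G) * rb b * (k : G)⁻¹) * k' := by group
          _ = _ := by rw [e1]; group
      cases b <;> cases b' <;> simp only [rb, Bool.false_eq_true, if_false, if_true] at e4
      · left; have := congrArg (·⁻¹) e4; simpa [mul_assoc] using this
      · right; have := congrArg (·⁻¹) e4; simpa [mul_assoc] using this
      · right; exact e4
      · left; exact e4
  have hpow : ∀ n : ℕ, c ^ n * r * (c ^ n)⁻¹ = r ∨ c ^ n * r * (c ^ n)⁻¹ = r⁻¹ := by
    intro n
    induction n with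
    | zero => left; simp
    | succ n ih =>
      have e1 : c ^ (n + 1) * r * (c ^ (n + 1))⁻¹ = c ^ n * (c * r * c⁻¹) * (c ^ n)⁻¹ := by
        rw [pow_succ]; group
      rw [e1]
      rcases hcr with e2 | e2 <;> rw [e2]
      · exact ih
      · rw [show c ^ n * r⁻¹ * (c ^ n)⁻¹ = (c ^ n * r * (c ^ n)⁻¹)⁻¹ by group]
        rcases ih with e3 | e3 <;> rw [e3]
        · exact Or.inr rfl
        · exact Or.inl (inv_inv r)
  obtain ⟨e₀, he₀o, he₀v, he₀r⟩ : ∃ e₀, orderOf e₀ = 2 ∧ Commute e₀ v ∧ e₀ * r * e₀⁻¹ = r⁻¹ := by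
    have hd := Subgroup.orderOf_dvd_natCard _
      (mem_centralizer_singleton_iff.2 hcv.eq : c ∈ centralizer ({v} : Set G))
    rw [F.cardC] at hd
    by_cases h2 : 2 ∣ orderOf c
    · set e₀ := c ^ (orderOf c / 2)
      have ho : orderOf e₀ = 2 := orderOf_pow_orderOf_div (orderOf_pos c).ne' h2
      refine ⟨e₀, ho, hcv.pow_left _, (hpow _).resolve_left fun e1 => hrv ?_⟩
      have hcom : Commute r e₀ := (mul_inv_eq_iff_eq_mul.1 e1 : e₀ * r = r * e₀).symm
      rcases F.inv_unique e₀ v r ho F.order (F.order_of_conj hr.1) (hcv.pow_left _).symm hcom with e2 | e2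
      · rw [e2]
      · rw [e2]; exact (Commute.refl v).inv_left
    exfalso
    have h3 : 3 ∣ orderOf c := by
      have hco : Nat.Coprime (orderOf c) (2 ^ 2) :=
        (((Nat.prime_two.coprime_iff_not_dvd).2 h2).symm).pow_right 2
      obtain ⟨j, -, hj⟩ := (Nat.dvd_prime_pow Nat.prime_three).1
        (hco.dvd_of_dvd_mul_left (show orderOf c ∣ 2 ^ 2 * 3 ^ 2 from hd))
      rcases Nat.eq_zero_or_pos j with rfl | hjp
      · rw [pow_zero, orderOf_eq_one_iff] at hj; exact absurd hj hc1
      · rw [hj]; exact dvd_pow_self 3 hjp.ne'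
    set g := c ^ (orderOf c / 3)
    have hgo : orderOf g = 3 := orderOf_pow_orderOf_div (orderOf_pos c).ne' h3
    have hgv : Commute g v := hcv.pow_left _
    have hgr : Commute g r := by
      rcases hpow (orderOf c / 3) with e1 | e1
      · exact mul_inv_eq_iff_eq_mul.1 e1
      · exfalso
        have e2 : g ^ 3 * r * (g ^ 3)⁻¹ = g * (g * (g * r * g⁻¹) * g⁻¹) * g⁻¹ := by
          rw [pow_succ, pow_two]; group
        rw [← hgo, pow_orderOf_eq_one, one_mul, inv_one, mul_one, e1] at e2
        rw [show g * r⁻¹ * g⁻¹ = (g * r * g⁻¹)⁻¹ by group, e1, inv_inv, e1] at e2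
        exact F.inv_ne hr.1 e2.symm
    by_cases hgT : IsConj v g
    · by_cases h1 : g = v
      · exact hrv (h1 ▸ hgr).symm
      by_cases h1' : g = v⁻¹
      · exact hrv (by have := (h1' ▸ hgr : Commute v⁻¹ r).inv_left; rw [inv_inv] at this; exact this.symm)
      exact F.not_closed hw heo hew hdo hdu hu huv hD ⟨hgT, hgv, h1, h1'⟩ hgr
    · exact hrv (F.commute_of_other hv hgo hgv hgT hgr.symm)
  have he₀i := inv_eq_self_of_orderOf_two he₀o
  have he₀₀ : e₀ * e₀ = 1 := by rw [← pow_two, ← he₀o, pow_orderOf_eq_one]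
  have hkey : (u * (e₀ * u * e₀)) ^ 2 = 1 :=
    F.twist hr.1 (F.nbr_symm hu.1 hr) he₀o (by rw [he₀i] at he₀r; exact he₀r)
  -- conjugating by the powers of `w`
  have hq : ∀ q ∈ F.V hv, q ≠ 1 → (u * (q * u * q)) ^ 2 = 1 := by
    intro q hq hq1
    obtain ⟨hqo, hqv⟩ := ((F.mem_V hv).1 hq).resolve_left hq1
    have hmove : ∀ m : G, Commute m u → (u * (m * e₀ * m⁻¹ * u * (m * e₀ * m⁻¹))) ^ 2 = 1 := by
      intro m hm
      have hm' : m⁻¹ * u * m = u := by rw [mul_assoc, ← hm.eq, inv_mul_cancel_left]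
      have hm'' : m * u * m⁻¹ = u := by rw [hm.eq, mul_inv_cancel_right]
      have e1 : u * (m * e₀ * m⁻¹ * u * (m * e₀ * m⁻¹)) = m * (u * (e₀ * u * e₀)) * m⁻¹ := by
        calc u * (m * e₀ * m⁻¹ * u * (m * e₀ * m⁻¹))
            = (m * u * m⁻¹) * (m * e₀ * (m⁻¹ * u * m) * e₀ * m⁻¹) := by rw [hm'']; group
          _ = _ := by rw [hm']; group
      rw [e1, conj_pow, hkey, mul_one, mul_inv_cancel]
    rcases F.V_cases hv hw he₀o he₀v hqo hqv with rfl | rfl | rfl
    · exact hkey
    · exact hmove w hwu.2.1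
    · have := hmove w⁻¹ hwu.2.1.inv_left
      rwa [inv_inv] at this
  have hn1 : e₀ ≠ 1 := fun e1 => by rw [e1, orderOf_one] at he₀o; norm_num at he₀o
  have he₀V : e₀ ∈ F.V hv := Or.inr ⟨he₀o, he₀v⟩
  set e₁ := w * e₀ * w⁻¹
  have he₁V : e₁ ∈ F.V hv := F.V_conj hv hw.2.1 he₀V
  have hn2 : e₁ ≠ 1 := fun e1 => hn1 (conj_eq_one_iff.1 e1)
  have h12 : e₀ ≠ e₁ := fun e1 => F.no_inv hv hw he₀o he₀v (mul_inv_eq_iff_eq_mul.1 e1.symm)
  set e₂ := e₀ * e₁
  have he₂V : e₂ ∈ F.V hv := mul_mem he₀V he₁V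
  have hn3 : e₂ ≠ 1 := fun e1 => h12 ((eq_inv_of_mul_eq_one_left e1).trans (F.V_inv hv he₁V))
  have h02 : e₀ ≠ e₂ := fun e1 => hn2 (mul_eq_left.1 e1.symm)
  have h12' : e₁ ≠ e₂ := fun e1 => hn1 (mul_eq_right.1 e1.symm)
  let qs : ℕ → G := fun i => match i with
    | 0 => 1
    | 1 => e₀
    | 2 => e₁
    | _ => e₂
  have hqsV : ∀ i, qs i ∈ F.V hv := by
    intro i
    rcases i with _ | _ | _ | i
    exacts [one_mem _, he₀V, he₁V, he₂V]
  have hqsinj : ∀ i < 4, ∀ j < 4, qs i = qs j → i = j := by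
    intro i hi j hj e1
    interval_cases i <;> interval_cases j <;> simp only [qs] at e1 <;>
      first
      | rfl
      | exact absurd e1 hn1 | exact absurd e1.symm hn1
      | exact absurd e1 hn2 | exact absurd e1.symm hn2
      | exact absurd e1 hn3 | exact absurd e1.symm hn3
      | exact absurd e1 h12 | exact absurd e1.symm h12
      | exact absurd e1 h02 | exact absurd e1.symm h02
      | exact absurd e1 h12' | exact absurd e1.symm h12'
  let x : ℕ → G := fun i => match i with
    | 0 => v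
    | i + 1 => qs i * u * qs i
  have hvq : ∀ i, qs i * v * qs i = v := fun i => by
    rw [(mem_centralizer_singleton_iff.1 (F.V_le hv (hqsV i))), mul_assoc, F.V_sq hv (hqsV i), mul_one]
  have hswap : ∀ a b : G, (a * b) ^ 2 = 1 → (b * a) ^ 2 = 1 := by
    intro a b hab
    calc (b * a) ^ 2 = a⁻¹ * (a * b) ^ 2 * a := by rw [pow_two, pow_two]; group
      _ = 1 := by rw [hab, mul_one, inv_mul_cancel]
  have hvu : ∀ i, (qs i * u * qs i * v) ^ 2 = 1 := by
    intro i
    have hqq := F.V_sq hv (hqsV i)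
    have e1 : qs i * u * qs i * v = qs i * (u * v) * (qs i)⁻¹ := by
      calc qs i * u * qs i * v = qs i * u * qs i * (qs i * v * qs i) := by rw [hvq i]
        _ = qs i * (u * ((qs i * qs i) * v)) * qs i := by group
        _ = _ := by rw [hqq, one_mul, F.V_inv hv (hqsV i)]
    rw [e1, conj_pow, huv2, mul_one, mul_inv_cancel]
  have hqij : ∀ i j, i < 4 → j < 4 → i ≠ j → ((qs i * u * qs i) * (qs j * u * qs j)) ^ 2 = 1 := by
    intro i j hi hj hij
    set q := qs i * qs j
    have hq1 : q ≠ 1 := fun e1 => hij (hqsinj i hi j hj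
      ((eq_inv_of_mul_eq_one_left e1).trans (F.V_inv hv (hqsV j))))
    have hqq := F.V_sq hv (hqsV i)
    have e1 : (qs i * u * qs i) * (qs j * u * qs j) = qs i * (u * (q * u * q)) * (qs i)⁻¹ := by
      rw [F.V_inv hv (hqsV i)]
      calc (qs i * u * qs i) * (qs j * u * qs j)
          = qs i * (u * (q * u * (qs j * (qs i * qs i)))) := by rw [hqq, mul_one]; simp only [q, mul_assoc]
        _ = qs i * (u * (q * u * (qs j * qs i))) * qs i := by group
        _ = _ := by rw [(F.V_commute hv (hqsV j) (hqsV i)).eq]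
    rw [e1, conj_pow, hq q (mul_mem (hqsV i) (hqsV j)) hq1, mul_one, mul_inv_cancel]
  refine ⟨x, ⟨?_, ?_⟩, F.ne_one hv⟩
  · intro i hi
    rcases i with _ | i
    · exact F.cube hv
    · show (qs i * u * qs i) ^ 3 = 1
      have hqi := F.V_inv hv (hqsV i)
      nth_rewrite 2 [← hqi]
      rw [conj_pow, F.cube hu.1, mul_one, mul_inv_cancel]
  · intro i hi j hj hij
    rcases i with _ | i <;> rcases j with _ | j
    · exact absurd rfl hij
    · exact hswap _ _ (hvu j)
    · exact hvu i
    · exact hqij i j (by omega) (by omega) (by omega)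

end Facts

/-- A simple group of order 2520 with the facts is `A₇`. -/
theorem Facts.equiv_alternating [IsSimpleGroup G] {v : G} (F : Facts v) :
    Nonempty (G ≃* alternatingGroup (Fin 7)) := by
  obtain ⟨x, R, hx⟩ := F.exists_carm
  obtain ⟨ρ, hρ⟩ := exists_hom R
  haveI : IsSimpleGroup (alternatingGroup (Fin (5 + 2))) := alternatingGroup.isSimpleGroup (by simp)
  have hinj : Function.Injective ρ := by
    rcases IsSimpleGroup.eq_bot_or_eq_top_of_normal ρ.ker inferInstance with h | h
    · exact (MonoidHom.ker_eq_bot_iff ρ).1 h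
    · exfalso
      have e := hρ 0 (by norm_num)
      have hm : carm 5 0 ∈ ρ.ker := h ▸ mem_top _
      rw [MonoidHom.mem_ker.1 hm] at e
      exact hx e.symm
  have hcard : Nat.card (alternatingGroup (Fin (5 + 2))) = Nat.card G := by
    have h2 := two_mul_nat_card_alternatingGroup (α := Fin (5 + 2))
    rw [Nat.card_perm, Nat.card_fin, show (5 + 2 : ℕ).factorial = 5040 from rfl] at h2
    rw [F.cardG]
    omega
  exact ⟨(MulEquiv.ofBijective ρ ((Nat.bijective_iff_injective_and_card ρ).2 ⟨hinj, hcard⟩)).symm⟩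

/-- Simple groups of order 2520 are `A₇`. -/
theorem equiv_alternating [IsSimpleGroup G] (hG : Nat.card G = 2520) :
    Nonempty (G ≃* alternatingGroup (Fin 7)) := by
  by_cases hidx : ∃ H : Subgroup G, H.index = 7
  · obtain ⟨H, hH⟩ := hidx
    have hne : H ≠ ⊤ := fun e => by rw [e, Subgroup.index_top] at hH; omega
    obtain ⟨f, hf⟩ := SmallGroups.Sylow.exists_alt_embedding
      (SmallGroups.Sylow.not_comm_of_card (by rw [hG]; norm_num)) hne hH
    have h2 := two_mul_nat_card_alternatingGroup (α := Fin 7)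
    rw [Nat.card_perm, Nat.card_fin, show (7 : ℕ).factorial = 5040 from rfl] at h2
    exact ⟨MulEquiv.ofBijective f ((Nat.bijective_iff_injective_and_card f).2 ⟨hf, by omega⟩)⟩
  · push Not at hidx
    obtain ⟨v, F⟩ := (⟨inferInstance, hG, hidx⟩ : Hyp G).exists_facts
    exact F.equiv_alternating

end Cfsg.Agent.Lib.SmallCentralizer.Order2520
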